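import Groth.Agent.Lib.SBTaut.Bundle
import Groth.Prelude.Def_KLin
import Mathlib.Algebra.Algebra.Opposite

/-!
# The action of the algebra on the bundle
-/

set_option autoImplicit false
set_option linter.style.haveILetI false
universe u

open CategoryTheory CategoryTheory.Limits AlgebraicGeometry Matrix Opposite TopologicalSpace

noncomputable section

namespace Groth.Agent.Lib.SBTaut

open Groth.Agent.Lib TensorMod.Dual

variable {k : Type u} [Field k] {A : Type u} [Ring A] [Algebra k A] {c : ℕ}
  {X : Scheme.{u}} (f : X ⟶ Spec (CommRingCat.of k)) {m : ℕ} (b : Module.Basis (Fin m) k A)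
  (σ : BrSev.SBStr k A c f)

/-- The global constants. -/
abbrev glc : k →+* Γ(X, ⊤) := Coh.toGlobal f

/-- The constants on an open. -/
def con (U : X.Opens) : k →+* Γ(X, U) :=
  (X.presheaf.map (homOfLE (le_top : U ≤ ⊤)).op).hom.comp (Coh.toGlobal f)

theorem alg_fromSpec {U : X.Opens} (hU : IsAffineOpen U) : alg f hU.fromSpec = con f U := by
  have h := congrArg (fun g : Spec Γ(X, U) ⟶ Spec (CommRingCat.of k) => g.appTop)
    (map_alg f hU.fromSpec)
  rw [Scheme.Hom.comp_appTop] at h
  have h2 : hU.fromSpec.appTop = X.presheaf.map (homOfLE (le_top : U ≤ ⊤)).op ≫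
      (Scheme.ΓSpecIso Γ(X, U)).inv := by
    refine (hU.fromSpec_app_of_le ⊤ le_top).trans ?_
    refine congrArg (fun q => X.presheaf.map (homOfLE (le_top : U ≤ ⊤)).op ≫ q) ?_
    exact (congrArg (fun q => (Scheme.ΓSpecIso Γ(X, U)).inv ≫ q)
      ((Spec Γ(X, U)).presheaf.map_id (op ⊤))).trans (Category.comp_id _)
  rw [h2] at h
  refine RingHom.ext fun a => ?_
  have h3 := congrArg (fun g => (Scheme.ΓSpecIso Γ(X, U)).hom (g ((Scheme.ΓSpecIso (CommRingCat.of k)).inv a))) h
  simp only [CategoryTheory.comp_apply] at h3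
  rw [← CategoryTheory.comp_apply (Spec.map _).appTop, Scheme.ΓSpecIso_naturality] at h3
  refine (Eq.trans ?_ h3).trans ?_
  · simp
  · simp [con, Coh.toGlobal]

/-- The images of the generators under a matrix of constants. -/
def matSec (L : Matrix (Fin m) (Fin m) k) (i : Fin m) : Γ(E f b σ, ⊤) :=
  ∑ j, glc f (L i j) • t f b σ j

theorem rs_matSec (L : Matrix (Fin m) (Fin m) k) (U : X.Opens) (i : Fin m) :
    rs (E f b σ) (le_top : U ≤ ⊤) (matSec f b σ L i) = comb (t f b σ) U (fun j => con f U (L i j)) := by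
  rw [matSec, comb]
  show ((E f b σ).presheaf.map _) _ = _
  rw [map_sum]
  refine Finset.sum_congr rfl fun j _ => ?_
  exact rs_smul (E f b σ) (le_top : U ≤ ⊤) _ _

theorem comb_matSec (L : Matrix (Fin m) (Fin m) k) (U : X.Opens) (v : Fin m → Γ(X, U)) :
    comb (matSec f b σ L) U v = comb (t f b σ) U ((L.map (con f U))ᵀ *ᵥ v) := by
  conv_lhs => rw [comb]
  simp only [rs_matSec, comb, Finset.smul_sum, smul_smul]
  rw [Finset.sum_comm]
  refine Finset.sum_congr rfl fun j _ => ?_
  rw [← Finset.sum_smul]
  congr 1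
  simp [Matrix.mulVec, dotProduct, mul_comm]

theorem exists_act (a : A) : ∃ φ : E f b σ ⟶ E f b σ,
    ∀ i, φ.app ⊤ (t f b σ i) = matSec f b σ (lmat b a) i :=
  exists_desc f b σ _ fun U hU v hv => by
    rw [comb_matSec, comb_t_eq_zero_iff f b σ hU, ← alg_fromSpec f hU]
    exact T_stable f b σ hU.fromSpec a hv

/-- The endomorphism of an element of the algebra. -/
def act (a : A) : E f b σ ⟶ E f b σ := (exists_act f b σ a).choose

theorem act_t (a : A) (i : Fin m) : (act f b σ a).app ⊤ (t f b σ i) = matSec f b σ (lmat b a) i :=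
  (exists_act f b σ a).choose_spec i

theorem act_matSec (a : A) (L : Matrix (Fin m) (Fin m) k) (i : Fin m) :
    (act f b σ a).app ⊤ (matSec f b σ L i) = matSec f b σ (L * lmat b a) i := by
  simp only [matSec, map_sum, Scheme.Modules.Hom.app_smul, act_t, Finset.smul_sum, smul_smul]
  rw [Finset.sum_comm]
  refine Finset.sum_congr rfl fun l _ => ?_
  rw [← Finset.sum_smul]
  congr 1
  simp [Matrix.mul_apply]

variable [X.Over (Spec (CommRingCat.of k))]

theorem smul_act_t (hf : X ↘ Spec (CommRingCat.of k) = f) (r : k) (φ : E f b σ ⟶ E f b σ) (i : Fin m) :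
    (r • φ).app ⊤ (t f b σ i) = glc f r • φ.app ⊤ (t f b σ i) := by
  rw [KLin.smul_app_apply, hf]
  congr 1
  exact ConcreteCategory.congr_hom (X.presheaf.map_id (op ⊤)) _

/-- The algebra map to the opposite of the endomorphism algebra. -/
def actHom (hf : X ↘ Spec (CommRingCat.of k) = f) : A →ₐ[k] (End (E f b σ))ᵐᵒᵖ :=
  AlgHom.ofLinearMap
    { toFun := fun a => MulOpposite.op (act f b σ a)
      map_add' := fun x y => congrArg MulOpposite.op (SBTaut.hom_ext f b σ fun i => by
        show (act f b σ (x + y)).app ⊤ _ = (act f b σ x).app ⊤ _ + (act f b σ y).app ⊤ _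
        rw [act_t, act_t, act_t, matSec, matSec, matSec, ← Finset.sum_add_distrib]
        refine Finset.sum_congr rfl fun j _ => ?_
        rw [← add_smul, ← map_add]
        congr 2
        exact congrFun (congrFun (by simp [lmat, map_add] : lmat b (x + y) = lmat b x + lmat b y) i) j)
      map_smul' := fun r x => congrArg MulOpposite.op (SBTaut.hom_ext f b σ fun i => by
        show (act f b σ (r • x)).app ⊤ _ = (r • act f b σ x).app ⊤ _
        rw [smul_act_t f b σ hf, act_t, act_t, matSec, matSec, Finset.smul_sum]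
        refine Finset.sum_congr rfl fun j _ => ?_
        rw [smul_smul, ← map_mul]
        congr 2
        have : lmat b (r • x) = r • lmat b x := by
          simp [lmat, show LinearMap.mulLeft k (r • x) = r • LinearMap.mulLeft k x from
            LinearMap.ext fun y => smul_mul_assoc r x y]
        rw [this]; rfl) }
    (congrArg MulOpposite.op (SBTaut.hom_ext f b σ fun i => by
      show (act f b σ 1).app ⊤ _ = t f b σ i
      rw [act_t, matSec, show lmat b (1 : A) = 1 by simp [lmat]]
      simp [Matrix.one_apply]))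
    (fun x y => congrArg MulOpposite.op (SBTaut.hom_ext f b σ fun i => by
      show (act f b σ (x * y)).app ⊤ _ = (act f b σ y).app ⊤ ((act f b σ x).app ⊤ _)
      rw [act_t, act_t, act_matSec, show lmat b (x * y) = lmat b x * lmat b y by
        simp [lmat, LinearMap.mulLeft_mul, LinearMap.toMatrix_comp b b b]]))

end Groth.Agent.Lib.SBTaut
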