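import Groth.Agent.Lib.SBTwist.Main
import Groth.Agent.Lib.SBTwist.Pic
import Groth.Agent.Lib.CohDelta.KBC.Simple
import Groth.Agent.Lib.CurveBundle.GP
import Mathlib.RingTheory.TensorProduct.IncludeLeftSubRight
import Mathlib.LinearAlgebra.TensorProduct.Finiteness
import Mathlib.LinearAlgebra.Matrix.FiniteDimensional
import Mathlib.RingTheory.Flat.FaithfullyFlat.Basic
import Mathlib.RingTheory.Finiteness.Descent

/-!
# Endomorphism algebras of isotypical bundles
-/

set_option autoImplicit false
set_option linter.style.haveILetI false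
universe u

open CategoryTheory CategoryTheory.Limits AlgebraicGeometry
open scoped TensorProduct

noncomputable section

namespace Groth.Agent.Lib.SBTaut

open Groth.Agent.Lib W4c1astiltbs12 TensorMod.Basic CurveBundle

section Pow

variable {C : Type*} [Category C] [Preadditive C] [HasFiniteCoproducts C] {R : Type*} [CommSemiring R]
  [Linear R C] (W : C) {m : ℕ}

/-- A projection of a power. -/
def proj' (a : Fin m) : (∐ fun _ : Fin m => W) ⟶ W :=
  Sigma.desc fun j => if j = a then 𝟙 W else 0

theorem ι_proj' (a c : Fin m) :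
    Sigma.ι (fun _ : Fin m => W) a ≫ proj' W c = if a = c then 𝟙 W else 0 := by
  simp [proj']

theorem sum_proj' : ∑ a, proj' W a ≫ Sigma.ι (fun _ : Fin m => W) a = 𝟙 _ := Sigma.hom_ext _ _ fun a => by
  rw [Preadditive.comp_sum, Category.comp_id]
  refine (Finset.sum_eq_single a (fun b _ hb => ?_) fun h => absurd (Finset.mem_univ a) h).trans ?_
  · rw [← Category.assoc, ι_proj', if_neg (Ne.symm hb), zero_comp]
  · rw [← Category.assoc, ι_proj', if_pos rfl, Category.id_comp]

theorem decomp (g : (∐ fun _ : Fin m => W) ⟶ ∐ fun _ : Fin m => W) :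
    g = ∑ a, ∑ c, proj' W c ≫ (Sigma.ι (fun _ : Fin m => W) c ≫ g ≫ proj' W a) ≫
      Sigma.ι (fun _ : Fin m => W) a := by
  calc g = (∑ c, proj' W c ≫ Sigma.ι (fun _ : Fin m => W) c) ≫ g ≫
      (∑ a, proj' W a ≫ Sigma.ι (fun _ : Fin m => W) a) := by
        rw [sum_proj', Category.id_comp, Category.comp_id]
    _ = _ := by
        simp only [Preadditive.sum_comp, Preadditive.comp_sum, Category.assoc]

theorem ι_sum_proj' (g : Fin m → Fin m → (W ⟶ W)) (a c : Fin m) :
    Sigma.ι (fun _ : Fin m => W) c ≫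
      (∑ a', ∑ c', proj' W c' ≫ g a' c' ≫ Sigma.ι (fun _ : Fin m => W) a') ≫ proj' W a = g a c := by
  simp only [Preadditive.sum_comp, Preadditive.comp_sum, Category.assoc, ι_proj', comp_ite, comp_zero,
    Category.comp_id]
  rw [Finset.sum_eq_single a (fun a' _ ha' => ?_) (by simp), Finset.sum_eq_single c (fun c' _ hc' => ?_) (by simp)]
  · rw [if_pos rfl, ← Category.assoc, ι_proj', if_pos rfl, Category.id_comp]
  · rw [if_pos rfl, ← Category.assoc, ι_proj', if_neg (Ne.symm hc'), zero_comp]
  · simp [ha']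

/-- The endomorphism algebra of a power is a matrix algebra. -/
def endPowEquiv : End (∐ fun _ : Fin m => W) ≃ₐ[R] Matrix (Fin m) (Fin m) (End W) :=
  AlgEquiv.ofLinearEquiv
    { toFun := fun g a c => (Sigma.ι (fun _ : Fin m => W) c ≫ g ≫ proj' W a : W ⟶ W)
      invFun := fun M => ∑ a, ∑ c, proj' W c ≫ (M a c : W ⟶ W) ≫ Sigma.ι (fun _ : Fin m => W) a
      map_add' := fun g g' => Matrix.ext fun a c =>
        (congrArg (fun q => Sigma.ι (fun _ : Fin m => W) c ≫ q) (Preadditive.add_comp _ _ _ g g' _)).trans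
          (Preadditive.comp_add _ _ _ _ _ _)
      map_smul' := fun r g => Matrix.ext fun a c =>
        (congrArg (fun q => Sigma.ι (fun _ : Fin m => W) c ≫ q) (Linear.smul_comp _ _ _ r g _)).trans
          (Linear.comp_smul _ _ _ _ r _)
      left_inv := fun g => (decomp W g).symm
      right_inv := fun M => Matrix.ext fun a c => ι_sum_proj' W (fun a c => M a c) a c }
    (Matrix.ext fun a c => by
      show Sigma.ι (fun _ : Fin m => W) c ≫ 𝟙 _ ≫ proj' W a = _
      rw [Category.id_comp, ι_proj', Matrix.one_apply]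
      by_cases h : a = c
      · subst h; simp
      · rw [if_neg h, if_neg (Ne.symm h)])
    (fun g g' => Matrix.ext fun a c => by
      show Sigma.ι (fun _ : Fin m => W) c ≫ (g' ≫ g) ≫ proj' W a = _
      rw [Matrix.mul_apply]
      show _ = ∑ x, ((Sigma.ι (fun _ : Fin m => W) c ≫ g' ≫ proj' W x) ≫
        (Sigma.ι (fun _ : Fin m => W) x ≫ g ≫ proj' W a))
      calc Sigma.ι (fun _ : Fin m => W) c ≫ (g' ≫ g) ≫ proj' W a
          = Sigma.ι (fun _ : Fin m => W) c ≫ (g' ≫ (∑ x, proj' W x ≫ Sigma.ι (fun _ : Fin m => W) x) ≫ g) ≫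
              proj' W a := by rw [sum_proj', Category.id_comp]
        _ = _ := by simp only [Preadditive.sum_comp, Preadditive.comp_sum, Category.assoc])

/-- Conjugation of endomorphism algebras. -/
def endConj {X Y : C} (e : X ≅ Y) : End X ≃ₐ[R] End Y :=
  AlgEquiv.ofLinearEquiv
    { toFun := fun g => e.inv ≫ g ≫ e.hom
      invFun := fun g => e.hom ≫ g ≫ e.inv
      map_add' := fun g g' => by
        show e.inv ≫ (g + g') ≫ e.hom = _
        rw [Preadditive.add_comp, Preadditive.comp_add]
      map_smul' := fun r g => by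
        show e.inv ≫ (r • g) ≫ e.hom = r • (_ : Y ⟶ Y)
        rw [Linear.smul_comp, Linear.comp_smul]
      left_inv := fun g => by simp
      right_inv := fun g => by simp }
    (by show e.inv ≫ 𝟙 X ≫ e.hom = 𝟙 Y; simp)
    (fun g g' => by show e.inv ≫ (g' ≫ g) ≫ e.hom = (e.inv ≫ g' ≫ e.hom) ≫ (e.inv ≫ g ≫ e.hom); simp)

end Pow

variable {k : Type u} [Field k] {X : Scheme.{u}} [X.Over (Spec (CommRingCat.of k))]

theorem tmap_add_left {M M' N N' : X.Modules} (f f' : M ⟶ M') (g : N ⟶ N') :
    tmap (f + f') g = tmap f g + tmap f' g := by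
  haveI : (tensorBy N).Additive := GP.additive_tensorBy _
  have key : ∀ h : M ⟶ M', tmap h g = tmap h (𝟙 N) ≫ tmap (𝟙 M') g := fun h => by
    rw [← tmap_comp, Category.comp_id, Category.id_comp]
  rw [key, key f, key f', show tmap (f + f') (𝟙 N) = tmap f (𝟙 N) + tmap f' (𝟙 N) from (tensorBy N).map_add,
    Preadditive.add_comp]

theorem tmap_add_right {M M' N N' : X.Modules} (f : M ⟶ M') (g g' : N ⟶ N') :
    tmap f (g + g') = tmap f g + tmap f g' := by
  rw [← cancel_mono (comm M' N').hom, Preadditive.add_comp, comm_natural, comm_natural, comm_natural,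
    tmap_add_left, Preadditive.comp_add]

theorem tmap_smul_left {M M' N N' : X.Modules} (c : k) (f : M ⟶ M') (g : N ⟶ N') :
    tmap (c • f) g = c • tmap f g := by
  have h : tmap (c • 𝟙 M) (𝟙 N) = c • 𝟙 (CohB1.tensorMod M N) := by
    rw [KLin.smul_id, KLin.smul_id]
    exact GP.tmap_scal M N _
  calc tmap (c • f) g = tmap ((c • 𝟙 M) ≫ f) (𝟙 N ≫ g) := by
        rw [Linear.smul_comp, Category.id_comp, Category.id_comp]
    _ = _ := by rw [tmap_comp, h, Linear.smul_comp, Category.id_comp]

theorem tmap_smul_right {M M' N N' : X.Modules} (c : k) (f : M ⟶ M') (g : N ⟶ N') :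
    tmap f (c • g) = c • tmap f g := by
  rw [← cancel_mono (comm M' N').hom, Linear.smul_comp, comm_natural, comm_natural, tmap_smul_left,
    Linear.comp_smul]

/-- The tensor product of endomorphisms. -/
def endTensor (M N : X.Modules) : End M ⊗[k] End N →ₐ[k] End (CohB1.tensorMod M N) :=
  Algebra.TensorProduct.algHomOfLinearMapTensorProduct
    (TensorProduct.lift (LinearMap.mk₂ k (fun (f : End M) (g : End N) => (tmap f g : End (CohB1.tensorMod M N)))
      (fun f f' g => tmap_add_left f f' g) (fun c f g => tmap_smul_left c f g)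
      (fun f g g' => tmap_add_right f g g') (fun c f g => tmap_smul_right c f g)))
    (fun f f' g g' => tmap_comp f' f g' g)
    (tmap_id M N)

section Dim

variable (p : X ⟶ Spec (CommRingCat.of k)) (K : Type u) [Field K] [Algebra k K]

attribute [local instance] CohDelta.KBC.overK

/-- Endomorphism spaces of isotypical modules. -/
theorem end_dim [IsProper p] [IsAlgClosed K] (hp : X ↘ Spec (CommRingCat.of k) = p)
    [IsIntegral (W4bk4gw11416.baseChange p K)]
    {E : X.Modules} (hE : FlatMod.IsFinLocFree E) {L : (W4bk4gw11416.baseChange p K).Modules}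
    (hL : PicF.IsInvertible L) (hL0 : ¬ IsZero L) {d : ℕ} (φ : bcMod p K E ≅ pow L d) :
    Module.Finite k (E ⟶ E) ∧ Module.finrank k (E ⟶ E) = d * d := by
  classical
  haveI : IsProper (W4bk4gw11416.baseChange p K ↘ Spec (CommRingCat.of K)) :=
    inferInstanceAs (IsProper (pullback.snd _ _))
  haveI : IsLocallyNoetherian X := LocallyOfFiniteType.isLocallyNoetherian p
  haveI : CompactSpace X := QuasiCompact.compactSpace_of_compactSpace p
  haveI := (Scheme.Modules.pullbackPushforwardAdjunction (proj p K)).left_adjoint_additive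
  have hEc : Coh.IsCoh E := Perfect.Coherent.isCoh_of_isFinLocFree hE
  haveI : E.IsQuasicoherent := hEc.1
  -- the dimension upstairs
  let s : Matrix (Fin d) (Fin d) K →ₗ[K] (pow L d ⟶ pow L d) :=
    { toFun := fun M => (endPowEquiv (R := K) (m := d) L).symm (Matrix.of fun a c => (M a c • 𝟙 L : L ⟶ L))
      map_add' := fun M M' => by
        rw [← map_add]
        refine congrArg _ (Matrix.ext fun a c => ?_)
        exact add_smul (M a c) (M' a c) (𝟙 L)
      map_smul' := fun r M => by
        refine Eq.trans ?_ (map_smul (endPowEquiv (R := K) (m := d) L).symm r _)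
        refine congrArg _ (Matrix.ext fun a c => ?_)
        exact mul_smul r (M a c) (𝟙 L) }
  have hs : Function.Bijective s := by
    refine (endPowEquiv (R := K) (m := d) L).symm.bijective.comp ⟨fun M M' h => Matrix.ext fun a c => ?_, fun M => ?_⟩
    · have h1 : M a c • 𝟙 L = M' a c • 𝟙 L := congrFun (congrFun h a) c
      by_contra hne
      refine hL0 ((IsZero.iff_id_eq_zero L).mpr ?_)
      have h2 : (M a c - M' a c) • 𝟙 L = 0 := by rw [sub_smul, h1, sub_self]
      exact (smul_eq_zero.mp h2).resolve_left (sub_ne_zero.mpr hne)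
    · choose c hc using fun a b : Fin d => CohDelta.KBC.end_scalar K hL (M a b)
      exact ⟨Matrix.of c, Matrix.ext fun a b => (hc a b).symm⟩
  let V := bcMod p K E ⟶ bcMod p K E
  let e1 : Matrix (Fin d) (Fin d) K ≃ₗ[K] V :=
    (LinearEquiv.ofBijective s hs).trans (endConj (R := K) φ.symm).toLinearEquiv
  haveI : Module.Finite K V := Module.Finite.equiv e1
  -- descent
  letI : Module k V := Module.compHom V (algebraMap k K)
  haveI : IsScalarTower k K V := IsScalarTower.of_algebraMap_smul fun r v => rfl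
  let π₀ : (E ⟶ E) →ₗ[k] V :=
    { toFun := fun h => CohDelta.KBC.pbMap p K h
      map_add' := fun h h' => Functor.map_add _
      map_smul' := fun r h => CohDelta.KBC.pbMap_smul p K hp r h }
  let Ψ : K ⊗[k] (E ⟶ E) →ₗ[K] V := LinearMap.liftBaseChange K π₀
  let b := Module.Basis.ofVectorSpace k K
  have hΨ : Function.Bijective Ψ := by
    constructor
    · rw [injective_iff_map_eq_zero]
      intro x hx
      obtain ⟨v, rfl⟩ := (TensorProduct.equivFinsuppOfBasisLeft (N := (E ⟶ E)) b).symm.surjective x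
      rw [TensorProduct.equivFinsuppOfBasisLeft_symm_apply, map_finsuppSum] at hx
      have hx' : ∑ i ∈ v.support, b i • CohDelta.KBC.pbMap p K (v i) = 0 := by
        refine Eq.trans (Finset.sum_congr rfl fun i _ => ?_) hx
        show _ = Ψ (b i ⊗ₜ v i)
        rw [LinearMap.liftBaseChange_tmul]
        rfl
      have h0 := CohDelta.KBC.eq_zero_of_sum_eq_zero p K b v.support (fun i => v i) hx'
      have hv : v = 0 := Finsupp.ext fun i => by
        by_contra hne
        exact hne (h0 i (Finsupp.mem_support_iff.mpr hne))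
      rw [hv, map_zero]
    · intro g
      obtain ⟨T, h, hg⟩ := CohDelta.KBC.exists_sum p K b hEc g
      refine ⟨∑ i ∈ T, b i ⊗ₜ[k] h i, ?_⟩
      rw [map_sum, hg]
      exact Finset.sum_congr rfl fun i _ => LinearMap.liftBaseChange_tmul _ _ _ _
  let e2 : K ⊗[k] (E ⟶ E) ≃ₗ[K] V := LinearEquiv.ofBijective Ψ hΨ
  haveI : Module.Finite K (K ⊗[k] (E ⟶ E)) := Module.Finite.equiv e2.symm
  have hfin : Module.Finite k (E ⟶ E) := Module.Finite.of_finite_tensorProduct_of_faithfullyFlat K
  refine ⟨hfin, ?_⟩
  rw [← Module.finrank_baseChange (R := K), e2.finrank_eq, ← e1.finrank_eq, Module.finrank_matrix]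
  simp

end Dim

end Groth.Agent.Lib.SBTaut
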