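import Groth.Agent.Lib.SBTaut.Type
import Groth.Agent.Lib.SBTaut.EndAlgebra
import Groth.Agent.Lib.Brauer.Index

/-!
# Multiplicities of the bundles of type `O(j)` on a Severi–Brauer scheme
-/

set_option autoImplicit false
set_option linter.style.haveILetI false
universe u

open CategoryTheory CategoryTheory.Limits AlgebraicGeometry MulOpposite
open scoped TensorProduct

noncomputable section

namespace Groth.Agent.Lib.SBTaut

open Groth.Agent.Lib W4c1astiltbs12 CohDelta Groth.Agent.Lib.Brauer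

section Op

variable {k : Type u} [Field k]

theorem isCentral_op (A : Type u) [Ring A] [Algebra k A] [Algebra.IsCentral k A] :
    Algebra.IsCentral k Aᵐᵒᵖ := by
  refine ⟨fun x hx => ?_⟩
  have h : unop x ∈ Subalgebra.center k A := Subalgebra.mem_center_iff.mpr fun y =>
    (congrArg unop (Subalgebra.mem_center_iff.mp hx (op y))).symm
  rw [Algebra.IsCentral.center_eq_bot, Algebra.mem_bot] at h
  obtain ⟨c, hc⟩ := h
  exact Algebra.mem_bot.mpr ⟨c, by rw [MulOpposite.algebraMap_apply, hc, op_unop]⟩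

/-- Matrices over the opposite algebra. -/
def matOp (D : Type u) [Ring D] [Algebra k D] (m : ℕ) :
    (Matrix (Fin m) (Fin m) D)ᵐᵒᵖ ≃ₐ[k] Matrix (Fin m) (Fin m) Dᵐᵒᵖ :=
  AlgEquiv.ofLinearEquiv
    { toFun := fun M => Matrix.of fun i j => op (unop M j i)
      invFun := fun M => op (Matrix.of fun i j => unop (M j i))
      map_add' := fun _ _ => rfl
      map_smul' := fun _ _ => rfl
      left_inv := fun _ => rfl
      right_inv := fun _ => rfl }
    (Matrix.ext fun i j => by
      show op ((1 : Matrix (Fin m) (Fin m) D) j i) = _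
      by_cases h : i = j
      · subst h; simp
      · simp [h, Ne.symm h])
    (fun M N => Matrix.ext fun i j => by
      show op ((unop N * unop M) j i) = _
      simp [Matrix.mul_apply, Finset.op_sum])

theorem isIndex_op {A : Type u} [Ring A] [Algebra k A] {d : ℕ} (h : CSAGal.IsIndex k A d) :
    CSAGal.IsIndex k Aᵐᵒᵖ d := by
  obtain ⟨hd, m, D, iD, iA, hm, hf, ⟨e⟩⟩ := h
  refine ⟨hd, m, Dᵐᵒᵖ, inferInstance, inferInstance, hm, ?_, ⟨(AlgEquiv.op e).trans (matOp D m)⟩⟩
  exact (MulOpposite.opLinearEquiv k (M := D)).finrank_eq.symm.trans hf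

variable (A : Type u) [Ring A] [Algebra k A] [Algebra.IsCentral k A] [IsSimpleRing A]
  [FiniteDimensional k A]

/-- A power of the opposite algebra has the index of the power. -/
theorem isIndex_tpow_op {d j : ℕ} (h : CSAGal.IsIndex k (CSAGal.tpow k A j) d) :
    CSAGal.IsIndex k (CSAGal.tpow k Aᵐᵒᵖ j) d := by
  obtain ⟨h1, h2, h3⟩ := Index.csa_tpow k A j
  haveI := isCentral_op (k := k) A
  obtain ⟨g1, g2, g3⟩ := Index.csa_tpow k Aᵐᵒᵖ j
  haveI := isCentral_op (k := k) (CSAGal.tpow k A j)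
  refine Index.index_congr (isIndex_op h) (Brauer.BEq.cancel_left (A := CSAGal.tpow k A j) ?_)
  exact (Brauer.BEq.beq_op (k := k) (A := CSAGal.tpow k A j)).trans
    (((Index.tpow_congr (Brauer.BEq.beq_op (k := k) (A := A)) j).trans (Index.tpow_base j)).symm.trans
      (Index.tpow_tensor (k := k) (A := A) (B := Aᵐᵒᵖ) j))

end Op

variable {k : Type u} [Field k] {X : Scheme.{u}}

theorem tensor_twist (f : X ⟶ Spec (CommRingCat.of k)) {K : Type u} [Field K] [Algebra k K] {n : ℕ}
    (e : BrSev.Splitting f K n) (a b : ℤ) :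
    Nonempty (CohB1.tensorMod (e.twist a) (e.twist b) ≅ e.twist (a + b)) :=
  ⟨(TensorMod.Pullback.pullbackTensorIso e.iso.hom _ _).symm ≪≫
    (Scheme.Modules.pullback e.iso.hom).mapIso (ProjCoh.Coherent.twTensor a b)⟩

variable (f : X ⟶ Spec (CommRingCat.of k)) [IsProper f] {A : Type u} [Ring A] [Algebra k A]
  [Algebra.IsCentral k A] [IsSimpleRing A] {K : Type u} [Field K] [Algebra k K] [IsAlgClosure k K]
  {N : ℕ} (σ : BrSev.SBStr k A ((N + 1) * (N + 1) - (N + 1)) f)
  (hA : Module.finrank k A = (N + 1) * (N + 1)) (e : BrSev.Splitting f K N)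

omit [IsProper f] [Algebra.IsCentral k A] [IsSimpleRing A] [Algebra k K] [IsAlgClosure k K] in
theorem finiteDimensional_of_finrank (hA : Module.finrank k A = (N + 1) * (N + 1)) :
    FiniteDimensional k A := FiniteDimensional.of_finrank_pos (hA ▸ Nat.mul_pos N.succ_pos N.succ_pos)

include e in
theorem isIntegral_bc' : IsIntegral (W4bk4gw11416.baseChange f K) :=
  haveI : IsAlgClosed K := IsAlgClosure.isAlgClosed k
  SBTwist.isIntegral_bc f e

variable [X.Over (Spec (CommRingCat.of k))] (hf : X ↘ Spec (CommRingCat.of k) = f)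

include e hf in
theorem finrank_end {T : X.Modules} (hT : FlatMod.IsFinLocFree T) {j : ℤ} {d : ℕ}
    (h : BrSev.IsTwPow e j d T) : Module.Finite k (T ⟶ T) ∧ Module.finrank k (T ⟶ T) = d * d := by
  haveI : IsAlgClosed K := IsAlgClosure.isAlgClosed k
  haveI := isIntegral_bc' f e
  exact end_dim f K hf hT (SBTwist.isInvertible_twist f e j) (SBTwist.ind_twist f e j).1 h.some

include σ hA e hf in
/-- A bundle of type `O(j)` with endomorphism algebra the tensor power of the opposite algebra. -/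
theorem exists_tpow_bundle (j : ℕ) :
    ∃ T : X.Modules, FlatMod.IsFinLocFree T ∧ BrSev.IsTwPow e (j : ℤ) ((N + 1) ^ j) T ∧
      Nonempty (CSAGal.tpow k Aᵐᵒᵖ j ≃ₐ[k] End T) := by
  haveI := finiteDimensional_of_finrank (k := k) (A := A) hA
  haveI := isCentral_op (k := k) A
  haveI : IsAlgClosed K := IsAlgClosure.isAlgClosed k
  induction j with
  | zero =>
    have hT : FlatMod.IsFinLocFree (Coh.structureModule X) :=
      TensorMod.LocFree.of_rank (TensorMod.LocFree.of_isInvertible (PicLoc.isInvertible_structureModule X))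
    have ht : BrSev.IsTwPow e ((0 : ℕ) : ℤ) ((N + 1) ^ 0) (Coh.structureModule X) := by
      rw [pow_zero]
      exact ⟨PicLoc.pullbackStructureIso _ ≪≫ (PicLoc.pullbackStructureIso _).symm ≪≫
        (Scheme.Modules.pullback e.iso.hom).mapIso ProjCoh.Coherent.twZero.symm ≪≫
        (coproductUniqueIso fun _ : Fin 1 => e.twist ((0 : ℕ) : ℤ)).symm⟩
    obtain ⟨hfin, hrk⟩ := finrank_end f e hf hT ht
    haveI : Module.Finite k (End (Coh.structureModule X)) := hfin
    have hrk' : Module.finrank k (End (Coh.structureModule X)) = Module.finrank k k := by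
      rw [Module.finrank_self]
      exact hrk.trans (by simp)
    haveI : Nontrivial (End (Coh.structureModule X)) :=
      Module.nontrivial_of_finrank_pos (R := k) (hrk'.trans_gt (by simp))
    have hbij : Function.Bijective (Algebra.ofId k (End (Coh.structureModule X))) :=
      ⟨(algebraMap k _).injective, (LinearMap.injective_iff_surjective_of_finrank_eq_finrank hrk'.symm
        (f := (Algebra.ofId k (End (Coh.structureModule X))).toLinearMap)).mp (algebraMap k _).injective⟩
    exact ⟨_, hT, ht, ⟨(TPow.tpowZero k Aᵐᵒᵖ).trans (AlgEquiv.ofBijective _ hbij)⟩⟩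
  | succ j ih =>
    let b := Module.finBasisOfFinrankEq k A hA
    haveI : IsSimpleRing (K ⊗[k] A) := CSA.Tensor.isSimpleRing_tensor
    obtain ⟨q, hq, ⟨ψ₀⟩⟩ := IsSimpleRing.exists_algEquiv_matrix_of_isAlgClosed K (K ⊗[k] A)
    have hqN : q = N + 1 := by
      have h := ψ₀.toLinearEquiv.finrank_eq
      rw [Module.finrank_baseChange, hA, Module.finrank_matrix, Module.finrank_self, Fintype.card_fin, mul_one] at h
      exact (Nat.mul_self_inj.mp h).symm
    subst hqN
    have hEt : BrSev.IsTwPow e 1 (N + 1) (E f b σ) := isTwPow_E ψ₀ σ b e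
    have hE := isFinLocFree_E f b σ
    obtain ⟨hfinE, hrkE⟩ := finrank_end f e hf hE hEt
    haveI : Module.Finite k (End (E f b σ)) := hfinE
    have hopE : Module.finrank k (End (E f b σ))ᵐᵒᵖ = Module.finrank k A :=
      (MulOpposite.opLinearEquiv k (M := End (E f b σ))).finrank_eq.symm.trans (hrkE.trans hA.symm)
    haveI : Nontrivial (End (E f b σ))ᵐᵒᵖ :=
      Module.nontrivial_of_finrank_pos (R := k) (by rw [hopE, hA]; positivity)
    have hinjA : Function.Injective (actHom f b σ hf) := RingHom.injective (actHom f b σ hf).toRingHom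
    let eA : A ≃ₐ[k] (End (E f b σ))ᵐᵒᵖ := AlgEquiv.ofBijective _ ⟨hinjA,
      (LinearMap.injective_iff_surjective_of_finrank_eq_finrank hopE.symm
        (f := (actHom f b σ hf).toLinearMap)).mp hinjA⟩
    let eE : Aᵐᵒᵖ ≃ₐ[k] End (E f b σ) := (AlgEquiv.op eA).trans (AlgEquiv.opOp k _).symm
    obtain ⟨T, hT, ht, ⟨eT⟩⟩ := ih
    have hTE : FlatMod.IsFinLocFree (CohB1.tensorMod T (E f b σ)) :=
      TensorMod.LocFree.isFinLocFree_tensorMod hT hE
    obtain ⟨i⟩ := tensor_twist f e (j : ℤ) 1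
    have htE : BrSev.IsTwPow e ((j + 1 : ℕ) : ℤ) ((N + 1) ^ (j + 1)) (CohB1.tensorMod T (E f b σ)) := by
      obtain ⟨φ⟩ := SBTwist.Generic.type_mul f K ht.some hEt.some
      rw [pow_succ, Nat.cast_add, Nat.cast_one]
      exact ⟨φ ≪≫ Sigma.mapIso fun _ => i⟩
    obtain ⟨hfin, hrk⟩ := finrank_end f e hf hTE htE
    haveI : Module.Finite k (End (CohB1.tensorMod T (E f b σ))) := hfin
    let ν : CSAGal.tpow k Aᵐᵒᵖ (j + 1) →ₐ[k] End (CohB1.tensorMod T (E f b σ)) :=
      (endTensor T (E f b σ)).comp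
        ((TPow.tpowSucc k Aᵐᵒᵖ j).trans (Algebra.TensorProduct.congr eT eE)).toAlgHom
    obtain ⟨c1, c2, c3⟩ := Index.csa_tpow k Aᵐᵒᵖ (j + 1)
    have hdim : Module.finrank k (CSAGal.tpow k Aᵐᵒᵖ (j + 1)) =
        Module.finrank k (End (CohB1.tensorMod T (E f b σ))) := by
      rw [Index.finrank_tpow, (MulOpposite.opLinearEquiv k (M := A)).finrank_eq.symm, hA]
      exact (mul_pow _ _ _).trans hrk.symm
    haveI : Nontrivial (End (CohB1.tensorMod T (E f b σ))) :=
      Module.nontrivial_of_finrank_pos (R := k) (hdim ▸ Module.finrank_pos)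
    have hinj : Function.Injective ν := RingHom.injective ν.toRingHom
    exact ⟨_, hTE, htE, ⟨AlgEquiv.ofBijective ν ⟨hinj,
      (LinearMap.injective_iff_surjective_of_finrank_eq_finrank hdim (f := ν.toLinearMap)).mp hinj⟩⟩⟩

include σ hA hf in
/-- The multiplicity of `O(j)` is the index of the `j`-th power, `j ≥ 0`. -/
theorem isIndex_of_nonneg {W : X.Modules} (hW : FlatMod.IsFinLocFree W) (hWi : KS.Ind W) (j : ℕ) {r : ℕ}
    (hr : 0 < r) (hWt : BrSev.IsTwPow e (j : ℤ) r W) : CSAGal.IsIndex k (CSAGal.tpow k A j) r := by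
  classical
  haveI := finiteDimensional_of_finrank (k := k) (A := A) hA
  haveI := isCentral_op (k := k) A
  haveI : IsAlgClosed K := IsAlgClosure.isAlgClosed k
  haveI : Algebra.IsAlgebraic k K := IsAlgClosure.isAlgebraic
  haveI : IsLocallyNoetherian X := LocallyOfFiniteType.isLocallyNoetherian f
  obtain ⟨T, hT, ht, ⟨eT⟩⟩ := exists_tpow_bundle f σ hA e hf j
  obtain ⟨c1, c2, c3⟩ := Index.csa_tpow k Aᵐᵒᵖ j
  obtain ⟨hfinT, hrkT⟩ := finrank_end f e hf hT ht
  have hT0 : ¬ IsZero T := fun hz => by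
    have : Subsingleton (T ⟶ T) := ⟨fun a b => hz.eq_of_src a b⟩
    rw [Module.finrank_zero_of_subsingleton] at hrkT
    exact (Nat.mul_pos (pow_pos N.succ_pos j) (pow_pos N.succ_pos j)).ne hrkT
  have hTc := Perfect.Coherent.isCoh_of_isFinLocFree hT
  have hLc := Ample.GG.isCoh_of_isInvertible (SBTwist.isInvertible_twist f e (j : ℤ))
  have hLi := SBTwist.ind_twist f e (j : ℤ)
  haveI : IsProper (BrSev.bcTo f K) := MorphismProperty.pullback_snd f _ ‹IsProper f›
  obtain ⟨G, a, hGc, hGi, ⟨ι', π', hιπ⟩, ha, ⟨eG⟩⟩ := KBC.exists_pow_of_isotypic f K hTc hT0 hLc hLi ht.some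
  obtain ⟨c, ⟨ec⟩⟩ := SBTwist.retract_pow (BrSev.bcTo f K) hLc hLi
    ((Scheme.Modules.pullback (BrSev.proj f K)).map ι' ≫ ht.some.hom)
    (ht.some.inv ≫ (Scheme.Modules.pullback (BrSev.proj f K)).map π') (by
      rw [Category.assoc, Iso.hom_inv_id_assoc, ← Functor.map_comp, hιπ, CategoryTheory.Functor.map_id])
  obtain ⟨i⟩ := KBC.iso_of_isotypic f K hGc (Perfect.Coherent.isCoh_of_isFinLocFree hW) hGi hWi ec hWt.some
  obtain ⟨hfinW, hrkW⟩ := finrank_end f e hf hW hWt
  let eM : CSAGal.tpow k Aᵐᵒᵖ j ≃ₐ[k] Matrix (Fin a) (Fin a) (End W) :=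
    eT.trans ((endConj (eG ≪≫ Sigma.mapIso fun _ => i)).trans (endPowEquiv W))
  haveI : NeZero a := ⟨ha.ne'⟩
  haveI : Module.Finite k (End W) := hfinW
  haveI : Algebra.IsCentral k (Matrix (Fin a) (Fin a) (End W)) := (Index.csa_congr k _ eM).1
  haveI : IsSimpleRing (Matrix (Fin a) (Fin a) (End W)) := (Index.csa_congr k _ eM).2.1
  haveI : Algebra.IsCentral k (End W) := CSA.Division.isCentral_of_matrix (n := a)
  haveI : IsSimpleRing (End W) := ⟨(TwoSidedIdeal.orderIsoMatrix (R := End W) (n := Fin a)).isSimpleOrder⟩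
  obtain ⟨q, hq, D, iD, iA, iC, iF, ⟨eD⟩⟩ := CSA.Division.exists_matrix (k := k) (End W)
  have hq1 : q = 1 := by
    by_contra hne
    have h2 : 1 < q := Nat.lt_of_le_of_ne (Nat.one_le_iff_ne_zero.mpr hq.out) (Ne.symm hne)
    let z : Fin q := ⟨0, by omega⟩
    let o : Fin q := ⟨1, h2⟩
    let u : End W := eD.symm (Matrix.single z z 1)
    have hu : u * u = u := by
      show eD.symm _ * eD.symm _ = eD.symm _
      rw [← map_mul, Matrix.single_mul_single_same, one_mul]
    rcases KS.idempotent_trivial hWi (u : W ⟶ W) hu with h | h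
    · have h' := congrArg eD (show u = 0 from h)
      simp only [u, AlgEquiv.apply_symm_apply, map_zero] at h'
      have := congrFun (congrFun h' z) z
      simp at this
    · have h' := congrArg eD (show u = 1 from h)
      simp only [u, AlgEquiv.apply_symm_apply, map_one] at h'
      have := congrFun (congrFun h' o) o
      simp [z, o, Fin.ext_iff] at this
  have hfD : Module.finrank k D = r ^ 2 := by
    have h := eD.toLinearEquiv.finrank_eq
    rw [show Module.finrank k (End W) = r * r from hrkW, Module.finrank_matrix, hq1] at h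
    simp at h
    rw [sq]
    exact h.symm
  have hidx : CSAGal.IsIndex k (CSAGal.tpow k Aᵐᵒᵖ j) r :=
    Index.isIndex_of_beq hr hfD ((BEq.of_matrix_equiv ha.ne' eM).trans (BEq.of_matrix_equiv hq.out eD))
  obtain ⟨h1, h2, h3⟩ := Index.csa_tpow k A j
  obtain ⟨d, hd⟩ := Index.exists_index k (CSAGal.tpow k A j)
  exact (Index.index_unique (isIndex_tpow_op A hd) hidx Brauer.BEq.refl) ▸ hd

end Groth.Agent.Lib.SBTaut
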