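import Groth.Agent.Lib.SBTaut.Main
import Groth.Agent.Lib.SBTwist.Generic
import Groth.Agent.Lib.Brauer.Period
import Groth.Agent.Lib.Brauer.Primary
import Groth.Agent.Lib.Brauer.Maximal
import Groth.Agent.Lib.TensorMod.LocFree
import Groth.Agent.Lib.TensorMod.TensorInv

/-!
# Multiplicities on Severi–Brauer schemes
-/

set_option autoImplicit false
set_option linter.style.haveILetI false
universe u

open CategoryTheory CategoryTheory.Limits AlgebraicGeometry
open scoped TensorProduct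

noncomputable section

namespace Groth.Agent.Lib.SBTaut.Rows

open Groth.Agent.Lib CohDelta Groth.Agent.Lib.Brauer

section Choose

theorem not_dvd_descFactorial {d q : ℕ} (hq : q.Prime) (hqd : q ∣ d) (hd : 0 < d) :
    ∀ i < q, ¬ q ∣ (d - 1).descFactorial i := by
  intro i
  induction i with
  | zero => intro _ h; rw [Nat.descFactorial_zero] at h; exact hq.not_dvd_one h
  | succ i ih =>
    intro hi h
    rw [Nat.descFactorial_succ] at h
    rcases hq.dvd_mul.mp h with h | h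
    · have hle : q ≤ d := Nat.le_of_dvd hd hqd
      have h1 : q ∣ i + 1 :=
        (Nat.dvd_add_right h).mp ((show d - 1 - i + (i + 1) = d by omega).symm ▸ hqd)
      exact absurd (Nat.le_of_dvd i.succ_pos h1) (by omega)
    · exact ih (by omega) h

theorem dvd_div_of_dvd_choose {d q e : ℕ} (hq : q.Prime) (hqd : q ∣ d) (hd : 0 < d) (he : e ∣ d)
    (hc : e ∣ d.choose q) : e ∣ d / q := by
  obtain ⟨m, rfl⟩ := hqd
  rw [Nat.mul_div_cancel_left m hq.pos]
  obtain ⟨p, rfl⟩ : ∃ p, q = p + 1 := ⟨q - 1, by have := hq.pos; omega⟩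
  obtain ⟨D, hD⟩ : ∃ D, (p + 1) * m = D + 1 := ⟨(p + 1) * m - 1, by omega⟩
  have hid : ((p + 1) * m).choose (p + 1) = m * D.choose p := by
    have h := Nat.add_one_mul_choose_eq D p
    rw [← hD] at h
    apply Nat.eq_of_mul_eq_mul_left hq.pos
    rw [← mul_assoc, h]
    ring
  have hnd : ¬ (p + 1) ∣ D.choose p := fun h => by
    have h' := not_dvd_descFactorial hq (Dvd.intro m rfl) hd p (by omega)
    rw [show (p + 1) * m - 1 = D by omega, Nat.descFactorial_eq_factorial_mul_choose] at h'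
    exact h' (h.mul_left _)
  rw [hid] at hc
  have h := Nat.dvd_gcd he hc
  rwa [mul_comm (p + 1) m, Nat.gcd_mul_left, (hq.coprime_iff_not_dvd.mpr hnd).gcd_eq_one, mul_one] at h

end Choose

section Brauer

variable {k : Type u} [Field k]

theorem index_tpow_dvd (A : Type u) [Ring A] [Algebra k A] [Algebra.IsCentral k A] [IsSimpleRing A]
    [FiniteDimensional k A] {d e : ℕ} (r : ℕ) (hd : CSAGal.IsIndex k A d)
    (he : CSAGal.IsIndex k (CSAGal.tpow k A r) e) : e ∣ d := by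
  obtain ⟨-, m, D, _, _, _, _, -, hf, hb, -⟩ := Index.isIndex_elim hd
  obtain ⟨L, _, _, -, _, -, hdim, hs⟩ := Maximal.exists_separable_degree (k := k) D hf
  obtain ⟨h1, h2, h3⟩ := Index.csa_tpow k A r
  exact hdim ▸ Index.index_dvd_of_splits he
    (BaseChange.splits_tpow L (Brauer.BEq.splits_of_beq hb L hs) r)

theorem period_dvd_index (A : Type u) [Ring A] [Algebra k A] [Algebra.IsCentral k A] [IsSimpleRing A]
    [FiniteDimensional k A] {p d : ℕ} (hp : CSAGal.IsPeriod k A p) (hd : CSAGal.IsIndex k A d) :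
    p ∣ d :=
  (Index.period_dvd hp d).mp (TPowIndex.splits_tpow_index hd)

theorem isPeriod_tpow (A : Type u) [Ring A] [Algebra k A] [Algebra.IsCentral k A] [IsSimpleRing A]
    [FiniteDimensional k A] {p : ℕ} (hp : CSAGal.IsPeriod k A p) (r : ℕ) :
    CSAGal.IsPeriod k (CSAGal.tpow k A r) (p / Nat.gcd p r) := by
  obtain ⟨h1, h2, h3⟩ := Index.csa_tpow k A r
  have key : ∀ e, Curves.Splits k (CSAGal.tpow k (CSAGal.tpow k A r) e) k ↔ p / Nat.gcd p r ∣ e :=
      fun e => by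
    obtain ⟨i1, i2, i3⟩ := Index.csa_tpow k (CSAGal.tpow k A r) e
    obtain ⟨j1, j2, j3⟩ := Index.csa_tpow k A (r * e)
    have hb := Index.tpow_mul (k := k) (A := A) r e
    have : p ∣ r * e ↔ p / Nat.gcd p r ∣ e := by
      obtain ⟨g, p', r', hg, hco, hp', hr'⟩ := Nat.exists_coprime' (m := p) (n := r)
        (Nat.gcd_pos_of_pos_left r hp.1)
      rw [hp', hr', Nat.gcd_mul_right, hco.gcd_eq_one, one_mul, Nat.mul_div_cancel _ hg,
        mul_comm r' g, mul_assoc, mul_comm p' g, Nat.mul_dvd_mul_iff_left hg]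
      exact ⟨hco.dvd_of_dvd_mul_left, fun h => Dvd.dvd.mul_left h _⟩
    rw [← this, ← Index.period_dvd hp]
    exact ⟨Brauer.BEq.splits_of_beq hb k, Brauer.BEq.splits_of_beq hb.symm k⟩
  have hpos : 0 < p / Nat.gcd p r :=
    Nat.div_pos (Nat.gcd_le_left r hp.1) (Nat.gcd_pos_of_pos_left r hp.1)
  exact ⟨hpos, (key _).mpr dvd_rfl, fun e h0 hlt hs =>
    absurd (Nat.le_of_dvd h0 ((key e).mp hs)) (not_le.mpr hlt)⟩

/-- If period and index agree, so they do for all divisors' powers. -/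
theorem index_tpow_dvd_div (g : ℕ) : ∀ (A : Type u) [Ring A] [Algebra k A] [Algebra.IsCentral k A]
    [IsSimpleRing A] [FiniteDimensional k A] {p e : ℕ}, CSAGal.IsPeriod k A p → CSAGal.IsIndex k A p →
    g ∣ p → CSAGal.IsIndex k (CSAGal.tpow k A g) e → e ∣ p / g := by
  induction g using Nat.recOnMul with
  | zero =>
    intro A _ _ _ _ _ p e hp _ hg _
    exact absurd (Nat.eq_zero_of_zero_dvd hg) hp.1.ne'
  | one =>
    intro A _ _ _ _ _ p e _ hi _ he
    rw [Nat.div_one]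
    exact index_tpow_dvd A 1 hi he
  | prime q hq =>
    intro A _ _ _ _ _ p e hp hi hg he
    exact dvd_div_of_dvd_choose hq hg hp.1 (index_tpow_dvd A q hi he)
      (TPowIndex.index_tpow_dvd_choose hi q he)
  | mul a b iha ihb =>
    intro A _ _ _ _ _ p e hp hi hg he
    obtain ⟨h1, h2, h3⟩ := Index.csa_tpow k A a
    obtain ⟨i1, i2, i3⟩ := Index.csa_tpow k A (a * b)
    obtain ⟨j1, j2, j3⟩ := Index.csa_tpow k (CSAGal.tpow k A a) b
    have hap : a ∣ p := (Dvd.intro b rfl).trans hg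
    have hpa := isPeriod_tpow A hp a
    rw [Nat.gcd_eq_right hap] at hpa
    obtain ⟨d, hd⟩ := Index.exists_index k (CSAGal.tpow k A a)
    obtain rfl : d = p / a :=
      Nat.dvd_antisymm (iha A hp hi hap hd) (period_dvd_index _ hpa hd)
    rw [← Nat.div_div_eq_div_mul]
    exact ihb _ hpa hd (Nat.dvd_div_of_mul_dvd hg) (Index.index_congr he (Index.tpow_mul a b))

theorem index_tpow_of_period_eq_index (A : Type u) [Ring A] [Algebra k A] [Algebra.IsCentral k A]
    [IsSimpleRing A] [FiniteDimensional k A] {p : ℕ} (hp : CSAGal.IsPeriod k A p)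
    (hi : CSAGal.IsIndex k A p) {e : ℕ} (j : ℕ) (he : CSAGal.IsIndex k (CSAGal.tpow k A j) e) :
    e = p / Nat.gcd p j := by
  obtain ⟨h1, h2, h3⟩ := Index.csa_tpow k A j
  obtain ⟨g1, g2, g3⟩ := Index.csa_tpow k A (Nat.gcd p j)
  obtain ⟨u, hu⟩ := Nat.gcd_dvd_right p j
  obtain ⟨i1, i2, i3⟩ := Index.csa_tpow k (CSAGal.tpow k A (Nat.gcd p j)) u
  obtain ⟨d, hd⟩ := Index.exists_index k (CSAGal.tpow k A (Nat.gcd p j))
  refine Nat.dvd_antisymm ?_ (period_dvd_index _ (isPeriod_tpow A hp j) he)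
  refine (index_tpow_dvd _ u hd (Index.index_congr he ?_)).trans
    (index_tpow_dvd_div _ A hp hi (Nat.gcd_dvd_left p j) hd)
  have hb := Index.tpow_mul (k := k) (A := A) (Nat.gcd p j) u
  rwa [← hu] at hb

theorem index_dvd_of_modEq (A : Type u) [Ring A] [Algebra k A] [Algebra.IsCentral k A]
    [IsSimpleRing A] [FiniteDimensional k A] {p m m' c d d' : ℕ} (hp : CSAGal.IsPeriod k A p)
    (h : m' ≡ m * c [MOD p]) (hd : CSAGal.IsIndex k (CSAGal.tpow k A m) d)
    (hd' : CSAGal.IsIndex k (CSAGal.tpow k A m') d') : d' ∣ d := by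
  obtain ⟨h1, h2, h3⟩ := Index.csa_tpow k A m
  obtain ⟨g1, g2, g3⟩ := Index.csa_tpow k A m'
  obtain ⟨i1, i2, i3⟩ := Index.csa_tpow k (CSAGal.tpow k A m) c
  exact index_tpow_dvd _ c hd (Index.index_congr hd'
    ((Primary.tpow_modEq (Brauer.BEq.of_splits hp.2.1) h).trans (Index.tpow_mul m c)))

theorem exists_modEq {p : ℕ} (hp : 0 < p) (j l : ℤ) (h : (p : ℤ) ∣ l - j) :
    ∃ c, l.natAbs ≡ j.natAbs * c [MOD p] := by
  obtain ⟨q, rfl⟩ : ∃ q, p = q + 1 := ⟨p - 1, by omega⟩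
  have hmod : ∀ c : ℕ, (((q + 1 : ℕ) : ℤ) ∣ (j.natAbs : ℤ) * (c : ℤ) - (l.natAbs : ℤ)) →
      l.natAbs ≡ j.natAbs * c [MOD q + 1] := fun c hc => Int.natCast_modEq_iff.mp (Int.modEq_iff_dvd.mpr (by rwa [Nat.cast_mul]))
  have hq : ((q + 1 : ℕ) : ℤ) = (q : ℤ) + 1 := by rw [Nat.cast_add, Nat.cast_one]
  rcases Int.natAbs_eq j with hj | hj <;> rcases Int.natAbs_eq l with hl | hl <;>
    generalize j.natAbs = a at hj hmod ⊢ <;> generalize l.natAbs = b at hl hmod ⊢ <;> subst hj hl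
  · exact ⟨1, hmod 1 (by rw [Nat.cast_one, mul_one]; exact dvd_sub_comm.mp h)⟩
  · refine ⟨q, hmod q ?_⟩
    rw [show (a : ℤ) * q - b = a * ((q + 1 : ℕ) : ℤ) + (-(b : ℤ) - a) by rw [hq]; ring]
    exact dvd_add (dvd_mul_left _ _) h
  · refine ⟨q, hmod q ?_⟩
    rw [show (a : ℤ) * q - b = a * ((q + 1 : ℕ) : ℤ) - ((b : ℤ) - -(a : ℤ)) by rw [hq]; ring]
    exact dvd_sub (dvd_mul_left _ _) h
  · refine ⟨1, hmod 1 ?_⟩
    rw [show (a : ℤ) * (1 : ℕ) - b = -(b : ℤ) - -(a : ℤ) by rw [Nat.cast_one]; ring]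
    exact h

theorem index_eq_of_dvd_sub (A : Type u) [Ring A] [Algebra k A] [Algebra.IsCentral k A]
    [IsSimpleRing A] [FiniteDimensional k A] {p : ℕ} (hp : CSAGal.IsPeriod k A p) {j l : ℤ}
    (h : (p : ℤ) ∣ l - j) {d d' : ℕ} (hd : CSAGal.IsIndex k (CSAGal.tpow k A j.natAbs) d)
    (hd' : CSAGal.IsIndex k (CSAGal.tpow k A l.natAbs) d') : d = d' := by
  obtain ⟨c, hc⟩ := exists_modEq hp.1 j l h
  obtain ⟨c', hc'⟩ := exists_modEq hp.1 l j (dvd_sub_comm.mp h)
  exact Nat.dvd_antisymm (index_dvd_of_modEq A hp hc' hd' hd) (index_dvd_of_modEq A hp hc hd hd')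

theorem index_dvd_of_generated (A B : Type u) [Ring A] [Algebra k A] [Algebra.IsCentral k A]
    [IsSimpleRing A] [FiniteDimensional k A] [Ring B] [Algebra k B] [Algebra.IsCentral k B]
    [IsSimpleRing B] [FiniteDimensional k B] {i : ℕ}
    (h : Brauer.BEq.BEq k (CSAGal.tpow k A i) B) {m d d' : ℕ}
    (hd : CSAGal.IsIndex k (CSAGal.tpow k A m) d)
    (hd' : CSAGal.IsIndex k (CSAGal.tpow k B m) d') : d' ∣ d := by
  obtain ⟨h1, h2, h3⟩ := Index.csa_tpow k A m
  obtain ⟨g1, g2, g3⟩ := Index.csa_tpow k B m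
  obtain ⟨f1, f2, f3⟩ := Index.csa_tpow k (CSAGal.tpow k A m) i
  refine index_tpow_dvd _ i hd (Index.index_congr hd' ?_)
  have e1 := Index.tpow_mul (k := k) (A := A) i m
  have e2 := Index.tpow_mul (k := k) (A := A) m i
  rw [mul_comm m i] at e2
  exact (Index.tpow_congr h.symm m).trans (e1.symm.trans e2)

theorem dvd_deg (A : Type u) [Ring A] [Algebra k A] [Algebra.IsCentral k A] [IsSimpleRing A]
    [FiniteDimensional k A] {n d : ℕ} (hA : Module.finrank k A = n * n)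
    (hd : CSAGal.IsIndex k A d) : d ∣ n := by
  obtain ⟨-, m, D, _, _, _, _, -, hf, -, ⟨e⟩⟩ := Index.isIndex_elim hd
  have h := e.toLinearEquiv.finrank_eq
  rw [hA, Module.finrank_matrix, hf, Fintype.card_fin, show m * m * d ^ 2 = m * d * (m * d) by ring] at h
  exact ⟨m, (Nat.mul_self_inj.mp h).trans (mul_comm m d)⟩

theorem eq_of_isIndex_prime (A : Type u) [Ring A] [Algebra k A] [Algebra.IsCentral k A]
    [IsSimpleRing A] [FiniteDimensional k A] {n : ℕ} (hq : n.Prime)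
    (hA : Module.finrank k A = n * n) (hns : ¬ Curves.Splits k A k) :
    CSAGal.IsPeriod k A n ∧ CSAGal.IsIndex k A n := by
  obtain ⟨d, hd⟩ := Index.exists_index k A
  have h1 : d ≠ 1 := fun h => hns ((Index.splits_iff_index_one hd).mpr h)
  obtain rfl : d = n := (hq.eq_one_or_self_of_dvd d (dvd_deg A hA hd)).resolve_left h1
  obtain ⟨p, hp, hpd⟩ := Period.exists_period hd
  refine ⟨?_, hd⟩
  rcases hq.eq_one_or_self_of_dvd p hpd with rfl | rfl
  · exact absurd (Brauer.BEq.splits_of_beq_base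
      ((Brauer.BEq.of_algEquiv (TPow.tpowOne k A)).symm.trans (Brauer.BEq.of_splits hp.2.1))) hns
  · exact hp

end Brauer

variable {k : Type u} [Field k] {X : Scheme.{u}} (f : X ⟶ Spec (CommRingCat.of k))
  {K : Type u} [Field K] [Algebra k K]

theorem isInvertible_of_bc {W : X.Modules} (hW : FlatMod.IsFinLocFree W)
    {L : (BrSev.bc f K).Modules} (hL : PicF.IsInvertible L)
    (e : BrSev.bcMod f K W ≅ BrSev.pow L 1) : PicF.IsInvertible W := by
  refine TensorMod.LocFree.isInvertible_of_rank_one fun x => ?_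
  obtain ⟨U, n, hx, ⟨i⟩⟩ := hW x
  haveI : Surjective (Spec.map (CommRingCat.ofHom (algebraMap k K))) :=
    ⟨fun t => ⟨IsLocalRing.closedPoint K, Subsingleton.elim _ _⟩⟩
  haveI : Surjective (BrSev.proj f K) := MorphismProperty.pullback_fst f _ ‹_›
  obtain ⟨y, hy⟩ := (BrSev.proj f K).surjective x
  obtain ⟨i₁⟩ := TensorMod.LocFree.pullback_iso_of_restrict_iso (BrSev.proj f K) i
  obtain ⟨V, hyV, ⟨i₂⟩⟩ := TensorMod.LocFree.rank_of_iso e.symm
    (TensorMod.LocFree.rank_of_iso (coproductUniqueIso fun _ : Fin 1 => L).symm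
      (TensorMod.LocFree.of_isInvertible hL)) y
  have hyU : y ∈ BrSev.proj f K ⁻¹ᵁ U := by
    show (BrSev.proj f K) y ∈ U
    rw [hy]; exact hx
  obtain ⟨i₁'⟩ := TensorMod.LocFree.exists_restrict_iso_freeMod
    (inf_le_left : BrSev.proj f K ⁻¹ᵁ U ⊓ V ≤ _) i₁
  obtain ⟨i₂'⟩ := TensorMod.LocFree.exists_restrict_iso_freeMod
    (inf_le_right : BrSev.proj f K ⁻¹ᵁ U ⊓ V ≤ _) i₂
  obtain rfl := TensorMod.TensorInv.freeMod_rank_eq (X := ↑(BrSev.proj f K ⁻¹ᵁ U ⊓ V))
    ⟨y, hyU, hyV⟩ (i₁'.symm ≪≫ i₂')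
  exact ⟨U, hx, ⟨i⟩⟩

variable [IsProper f] {A : Type u} [Ring A] [Algebra k A] [Algebra.IsCentral k A] [IsSimpleRing A]
  [IsAlgClosure k K] {N : ℕ} (hX : BrSev.IsSBOf k A ((N + 1) * (N + 1) - (N + 1)) f)
  (hA : Module.finrank k A = (N + 1) * (N + 1)) (e : BrSev.Splitting f K N)

include hX hA in
/-- The multiplicity of `O(j)` is the index of the `|j|`-th power. -/
theorem isIndex {W : X.Modules} (hW : FlatMod.IsFinLocFree W) (hWi : KS.Ind W) (j : ℤ) {r : ℕ}
    (hr : 0 < r) (hWt : BrSev.IsTwPow e j r W) :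
    CSAGal.IsIndex k (CSAGal.tpow k A j.natAbs) r := by
  obtain ⟨σ⟩ := hX
  letI : X.Over (Spec (CommRingCat.of k)) := ⟨f⟩
  obtain ⟨m, rfl | rfl⟩ := Int.eq_nat_or_neg j
  · rw [Int.natAbs_natCast]
    exact isIndex_of_nonneg f σ hA e rfl hW hWi m hr hWt
  · rw [Int.natAbs_neg, Int.natAbs_natCast]
    haveI : IsAlgClosed K := IsAlgClosure.isAlgClosed k
    haveI : Algebra.IsAlgebraic k K := IsAlgClosure.isAlgebraic
    haveI := SBTwist.isIntegral_bc f e
    haveI : ConnectedSpace ↥(W4bk4gw11416.baseChange f K) :=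
      (inferInstance : ConnectedSpace ↥(BrSev.bc f K))
    obtain ⟨W', r', hW', hW'i, hr', hW't⟩ := SBTwist.exists_type f e (m : ℤ)
    have hc : ∀ a b : ℤ, a + b = 0 →
        Nonempty (RefHull.dual (e.twist a) ≅ e.twist b) := fun a b h =>
      SBTwist.Generic.dual_of_cancel (SBTwist.isInvertible_twist f e a)
        ⟨(TensorMod.Pullback.pullbackTensorIso e.iso.hom _ _).symm ≪≫
          (Scheme.Modules.pullback e.iso.hom).mapIso (ProjCoh.Coherent.twCancel a b h) ≪≫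
          PicLoc.pullbackStructureIso _⟩
    have hrr : r = r' := SBTwist.Generic.mult_dual f K (SBTwist.isInvertible_twist f e (-(m : ℤ)))
      (SBTwist.isInvertible_twist f e (m : ℤ)) (hc (-(m : ℤ)) m (by omega)) (hc m (-(m : ℤ)) (by omega))
      hW hW' hWi hW'i hr hr' hWt.some hW't.some
    exact hrr ▸ isIndex_of_nonneg f σ hA e rfl hW' hW'i m hr' hW't

end Groth.Agent.Lib.SBTaut.Rows
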