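import Groth.Agent.Lib.SBTaut.Family
import Groth.Agent.Lib.KoszulSh.Divisor.Copies
import Groth.Agent.Lib.Modules.AffineSections
import Groth.Agent.Lib.Modules.FreeStalk
import Groth.Agent.Lib.Modules.AffineHom
import Groth.Agent.Lib.CurveBundle.Coherent
import Groth.Agent.Lib.CohDelta.FPApprox.Sections
import Groth.Prelude.Def_Coh

/-!
# The quotient of `O^m` by the annihilators of the ideals of the points
-/

set_option autoImplicit false
set_option linter.style.haveILetI false
universe u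

open CategoryTheory CategoryTheory.Limits AlgebraicGeometry Matrix Opposite TopologicalSpace

noncomputable section

namespace Groth.Agent.Lib.SBTaut

open Groth.Agent.Lib Groth.Agent.Lib.SBAut
open Modules.SubStalk TensorMod.Dual

variable {k : Type u} [Field k] {A : Type u} [Ring A] [Algebra k A] {c : ℕ}
  {X : Scheme.{u}} (f : X ⟶ Spec (CommRingCat.of k)) {m : ℕ} (b : Module.Basis (Fin m) k A)
  (σ : BrSev.SBStr k A c f)

/-- Coordinates of sections of `O^m`. -/
def vec (U : X.Opens) : Γ(FlatMod.freeMod X m, U) ≃ₗ[Γ(X, U)] (Fin m → Γ(X, U)) :=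
  (KoszulSh.Copies.Bg X m U).equivFun

theorem gen_eq (i : Fin m) : Modules.Free.gen X i = KoszulSh.Copies.g X m ⊤ i := rfl

theorem germ_g (U : X.Opens) (x : X) (hx : x ∈ U) (i : Fin m) :
    (FlatMod.freeMod X m).presheaf.germ U x hx (KoszulSh.Copies.g X m U i) =
      Modules.FreeStalk.stalkBasis X m x i := by
  rw [Modules.FreeStalk.stalkBasis_apply, gen_eq, ← KoszulSh.Copies.rs_g (le_top : U ≤ ⊤) m i]
  exact TopCat.Presheaf.germ_res_apply _ _ x hx _

theorem vec_symm_apply (U : X.Opens) (v : Fin m → Γ(X, U)) :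
    (vec U).symm v = ∑ i, v i • KoszulSh.Copies.g X m U i := by
  rw [vec, Module.Basis.equivFun_symm_apply]
  simp only [KoszulSh.Copies.Bg_eq]

theorem germ_vec (U : X.Opens) (x : X) (hx : x ∈ U) (v : Fin m → Γ(X, U)) :
    (FlatMod.freeMod X m).presheaf.germ U x hx ((vec U).symm v) =
      (Modules.FreeStalk.stalkBasis X m x).equivFun.symm (X.presheaf.germ U x hx ∘ v) := by
  rw [vec_symm_apply, map_sum, Module.Basis.equivFun_symm_apply]
  simp only [Modules.StalkModule.germ_smul, germ_g, Function.comp_apply]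

/-- The annihilators as submodules of the stalks of `O^m`. -/
def fam : Family (FlatMod.freeMod X m) := fun x =>
  (T f b σ (X.fromSpecStalk x)).map (Modules.FreeStalk.stalkBasis X m x).equivFun.symm.toLinearMap

theorem fam_eq {U : X.Opens} (hU : IsAffineOpen U) {s : Fin m → Fin m → Γ(X, U)}
    (hs : T f b σ hU.fromSpec = Submodule.span Γ(X, U) (Set.range s)) (x : X) (hx : x ∈ U) :
    fam f b σ x = Submodule.span (X.presheaf.stalk x)
      (Set.range fun i => (FlatMod.freeMod X m).presheaf.germ U x hx ((vec U).symm (s i))) := by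
  rw [fam, ← hU.fromSpecStalk_eq_fromSpecStalk hx, IsAffineOpen.fromSpecStalk, T_comp, hs, bc_span,
    Submodule.map_span, ← Set.range_comp]
  congr 2
  funext i
  exact (germ_vec U x hx (s i)).symm

theorem isLocFG_fam : IsLocFG (fam f b σ) ⊤ := fun x _ => by
  obtain ⟨U, hU, hxU, -⟩ := exists_isAffineOpen_mem_and_subset (Opens.mem_top x)
  obtain ⟨s, hs⟩ := (split_T f b σ hU.fromSpec).eq_span
  exact ⟨U, hU, hxU, le_top, m, fun i => (vec U).symm (s i), fun y hy => fam_eq f b σ hU hs y hy⟩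

instance : (FlatMod.freeMod X m).IsQuasicoherent := CurveBundle.Coherent.isQCoh_freeMod X m

theorem mem_secs_fam {U : X.Opens} (hU : IsAffineOpen U) (t : Γ(FlatMod.freeMod X m, U)) :
    t ∈ secs (fam f b σ) U ↔ vec U t ∈ T f b σ hU.fromSpec := by
  obtain ⟨s, hs⟩ := (split_T f b σ hU.fromSpec).eq_span
  rw [secs_eq_span hU _ fun y hy => fam_eq f b σ hU hs y hy]
  rw [show (Set.range fun i => (vec U).symm (s i)) = (vec U).symm.toLinearMap '' Set.range s from
      (Set.range_comp _ _), ← Submodule.map_span, ← hs]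
  constructor
  · rintro ⟨v, hv, rfl⟩
    simpa using hv
  · intro h
    exact ⟨_, h, (vec U).symm_apply_apply t⟩

instance : (subMod (fam f b σ)).IsQuasicoherent := isQCoh_subMod (isLocFG_fam f b σ)

/-- The bundle: `O^m` modulo the annihilators. -/
def E : X.Modules := cokernel (ι (fam f b σ))

/-- The projection. -/
def π : FlatMod.freeMod X m ⟶ E f b σ := cokernel.π (ι (fam f b σ))

instance : Epi (π f b σ) := inferInstanceAs (Epi (cokernel.π _))

instance : (E f b σ).IsQuasicoherent := QCoh.Closure.isQCoh_cokernel _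

theorem π_surjective {U : X.Opens} (hU : IsAffineOpen U) : Function.Surjective ((π f b σ).app U) :=
  CohDelta.FPApprox.Sections.appL_surjective (π f b σ) hU

theorem π_eq_zero_iff {U : X.Opens} (hU : IsAffineOpen U) (t : Γ(FlatMod.freeMod X m, U)) :
    (π f b σ).app U t = 0 ↔ vec U t ∈ T f b σ hU.fromSpec := by
  rw [← mem_secs_fam f b σ hU]
  have h := SetLike.ext_iff.mp (CohDelta.IdealMul.Main.ker_cokernel_π (ι (fam f b σ)) ⟨U, hU⟩) t
  refine h.trans ⟨?_, fun ht => ?_⟩
  · rintro ⟨a, rfl⟩; exact ι_app_mem _ U a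
  · exact exists_ι_app ht

/-- Sections over an affine open. -/
def sectionsEquiv {U : X.Opens} (hU : IsAffineOpen U) :
    ((Fin m → Γ(X, U)) ⧸ T f b σ hU.fromSpec) ≃ₗ[Γ(X, U)] Γ(E f b σ, U) :=
  Submodule.Quotient.equiv _ (LinearMap.ker (CohBasics.Affine.secₗ (π f b σ) U)) (vec U).symm (by
    ext t
    rw [LinearMap.mem_ker, Submodule.mem_map_equiv]
    exact (π_eq_zero_iff f b σ hU t).symm) ≪≫ₗ
  (CohBasics.Affine.secₗ (π f b σ) U).quotKerEquivOfSurjective (π_surjective f b σ hU)

theorem isFinLocFree_E : FlatMod.IsFinLocFree (E f b σ) :=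
  Modules.AffineSections.isFinLocFree_of_sections fun x => by
    obtain ⟨U, hU, hxU, -⟩ := exists_isAffineOpen_mem_and_subset (Opens.mem_top x)
    haveI := (split_T f b σ hU.fromSpec).projective_quotient
    exact ⟨U, hU, hxU, Module.Finite.equiv (sectionsEquiv f b σ hU),
      Module.Projective.of_equiv (sectionsEquiv f b σ hU)⟩

/-- The global generators. -/
def t (i : Fin m) : Γ(E f b σ, ⊤) := (π f b σ).app ⊤ (Modules.Free.gen X i)

/-- Combinations of global sections. -/
def comb {M : X.Modules} (q : Fin m → Γ(M, ⊤)) (U : X.Opens) (v : Fin m → Γ(X, U)) : Γ(M, U) :=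
  ∑ i, v i • rs M (le_top : U ≤ ⊤) (q i)

theorem freeHom_app {M : X.Modules} (q : Fin m → Γ(M, ⊤)) (U : X.Opens) (s : Γ(FlatMod.freeMod X m, U)) :
    (Modules.Free.freeHom q).app U s = comb q U (vec U s) := by
  conv_lhs => rw [← (vec U).symm_apply_apply s, vec_symm_apply, map_sum]
  refine Finset.sum_congr rfl fun i _ => ?_
  rw [Scheme.Modules.Hom.app_smul, ← KoszulSh.Copies.rs_g (le_top : U ≤ ⊤) m i, ← gen_eq,
    Modules.TensorSec.app_rs, Modules.Free.freeHom_app_gen]

theorem π_eq_freeHom : π f b σ = Modules.Free.freeHom (t f b σ) :=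
  Modules.Free.freeHom_ext fun i => (Modules.Free.freeHom_app_gen (t f b σ) i).symm

/-- The relations of the generators. -/
theorem comb_t_eq_zero_iff {U : X.Opens} (hU : IsAffineOpen U) (v : Fin m → Γ(X, U)) :
    comb (t f b σ) U v = 0 ↔ v ∈ T f b σ hU.fromSpec := by
  have h := π_eq_zero_iff f b σ hU ((vec U).symm v)
  rwa [LinearEquiv.apply_symm_apply, π_eq_freeHom, freeHom_app, LinearEquiv.apply_symm_apply] at h

theorem comb_t_surjective {U : X.Opens} (hU : IsAffineOpen U) :
    Function.Surjective (comb (t f b σ) U) := fun y => by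
  obtain ⟨s, hs⟩ := π_surjective f b σ hU y
  refine ⟨vec U s, ?_⟩
  rw [← freeHom_app, ← π_eq_freeHom]
  exact hs

/-- Morphisms out of the bundle. -/
theorem exists_desc {M : X.Modules} (q : Fin m → Γ(M, ⊤))
    (h : ∀ (U : X.Opens) (hU : IsAffineOpen U), ∀ v ∈ T f b σ hU.fromSpec, comb q U v = 0) :
    ∃ φ : E f b σ ⟶ M, ∀ i, φ.app ⊤ (t f b σ i) = q i := by
  have hz : ι (fam f b σ) ≫ Modules.Free.freeHom q = 0 := Modules.AffineHom.hom_ext_affine fun U s => by
    rw [Scheme.Modules.Hom.comp_app, CategoryTheory.comp_apply, freeHom_app]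
    exact h U.1 U.2 _ ((mem_secs_fam f b σ U.2 _).mp (ι_app_mem _ U.1 s))
  refine ⟨cokernel.desc _ _ hz, fun i => ?_⟩
  have e : π f b σ ≫ cokernel.desc _ _ hz = Modules.Free.freeHom q := cokernel.π_desc _ _ _
  exact (congrArg (fun χ : FlatMod.freeMod X m ⟶ M => χ.app ⊤ (Modules.Free.gen X i)) e).trans
    (Modules.Free.freeHom_app_gen q i)

theorem hom_ext {M : X.Modules} {φ ψ : E f b σ ⟶ M}
    (h : ∀ i, φ.app ⊤ (t f b σ i) = ψ.app ⊤ (t f b σ i)) : φ = ψ := by
  rw [← cancel_epi (π f b σ)]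
  refine Modules.Free.freeHom_ext fun i => ?_
  rw [Scheme.Modules.Hom.comp_app, Scheme.Modules.Hom.comp_app]
  exact h i

end Groth.Agent.Lib.SBTaut
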