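import Groth.Agent.Lib.SBTaut.Perp
import Groth.Agent.Lib.SBAut.Splitting
import Groth.Agent.Lib.Modules.SubStalk

/-!
# The annihilators of the ideals of the points of a Severi–Brauer scheme
-/

set_option autoImplicit false
set_option linter.style.haveILetI false
universe u

open CategoryTheory AlgebraicGeometry Matrix
open scoped TensorProduct

noncomputable section

namespace Groth.Agent.Lib.SBTaut

open Groth.Agent.Lib.SBAut (bc)

variable {k : Type u} [Field k] {A : Type u} [Ring A] [Algebra k A] {c : ℕ}
  {X : Scheme.{u}} (f : X ⟶ Spec (CommRingCat.of k)) {m : ℕ} (b : Module.Basis (Fin m) k A)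

/-- The algebra structure of a point. -/
def alg {R : CommRingCat.{u}} (g : Spec R ⟶ X) : k →+* R := (Spec.preimage (g ≫ f)).hom

theorem map_alg {R : CommRingCat.{u}} (g : Spec R ⟶ X) :
    Spec.map (CommRingCat.ofHom (alg f g)) = g ≫ f := Spec.map_preimage _

theorem alg_comp {R S : CommRingCat.{u}} (g : Spec R ⟶ X) (φ : R ⟶ S) :
    alg f (Spec.map φ ≫ g) = φ.hom.comp (alg f g) := by
  have h : Spec.map (Spec.preimage ((Spec.map φ ≫ g) ≫ f)) = Spec.map (Spec.preimage (g ≫ f) ≫ φ) := by
    rw [Spec.map_comp, Spec.map_preimage, Spec.map_preimage, Category.assoc]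
  exact congrArg CommRingCat.Hom.hom (Spec.map_injective h)

/-- Coordinates on `R ⊗ A`. -/
def coords (R : Type u) [CommRing R] [Algebra k R] : R ⊗[k] A ≃ₗ[R] (Fin m → R) :=
  (Algebra.TensorProduct.basis R b).equivFun

theorem coords_tmul (R : Type u) [CommRing R] [Algebra k R] (r : R) (a : A) (i : Fin m) :
    coords b R (r ⊗ₜ[k] a) i = r * algebraMap k R (b.repr a i) := by
  simp [coords, Algebra.TensorProduct.basis_repr_tmul, Algebra.smul_def]

theorem coords_incl {R S : Type u} [CommRing R] [Algebra k R] [CommRing S] [Algebra k S] (φ : R →ₐ[k] S)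
    (x : R ⊗[k] A) : coords b S (SBAut.incl A φ x) = φ.toRingHom ∘ coords b R x := by
  induction x using TensorProduct.induction_on with
  | zero => funext i; simp
  | tmul r a => funext i; simp [coords_tmul, φ.commutes]
  | add x y hx hy => rw [map_add, map_add, hx, hy, map_add]; funext i; simp

/-- The matrix of left multiplication. -/
def lmat (a : A) : Matrix (Fin m) (Fin m) k := LinearMap.toMatrix b b (LinearMap.mulLeft k a)

theorem lmat_mulVec (R : Type u) [CommRing R] [Algebra k R] (a : A) (x : R ⊗[k] A) :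
    (lmat b a).map (algebraMap k R) *ᵥ coords b R x = coords b R ((1 ⊗ₜ[k] a) * x) := by
  induction x using TensorProduct.induction_on with
  | zero => simp
  | tmul r y =>
    funext i
    rw [Algebra.TensorProduct.tmul_mul_tmul, one_mul, coords_tmul]
    have h := congrFun (LinearMap.toMatrix_mulVec_repr b b (LinearMap.mulLeft k a) y) i
    rw [LinearMap.mulLeft_apply] at h
    rw [← h]
    simp only [Matrix.mulVec, dotProduct, Matrix.map_apply, coords_tmul, lmat, map_sum, map_mul,
      Finset.mul_sum]
    exact Finset.sum_congr rfl fun j _ => by ring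
  | add x y hx hy => rw [map_add, Matrix.mulVec_add, hx, hy, mul_add, map_add]

variable (σ : BrSev.SBStr k A c f)

/-- The ideal of a point of given algebra structure, in coordinates. -/
def ideal' {R : Type u} [CommRing R] [Algebra k R] (g : BrSev.Pts f R) : Submodule R (Fin m → R) :=
  ((σ.bij R g).1.toSubmodule).map (coords b R).toLinearMap

theorem ideal'_map {R S : Type u} [CommRing R] [Algebra k R] [CommRing S] [Algebra k S] (φ : R →ₐ[k] S)
    (g : BrSev.Pts f R) : ideal' f b σ (BrSev.Pts.map f φ g) = bc φ.toRingHom (ideal' f b σ g) := by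
  rw [ideal', σ.natural, SBAut.map_toSubmodule_eq, SBAut.bcT, Submodule.map_span, bc, ← Set.image_comp,
    ideal', Submodule.map_coe, ← Set.image_comp]
  congr 1
  exact Set.image_congr' fun x => coords_incl b φ x

theorem split_ideal' {R : Type u} [CommRing R] [Algebra k R] (g : BrSev.Pts f R) :
    Split (ideal' f b σ g) := by
  haveI := (σ.bij R g).1.projective_quotient
  haveI : Module.Projective R ((Fin m → R) ⧸ ideal' f b σ g) :=
    Module.Projective.of_equiv (Submodule.Quotient.equiv _ _ (coords b R) rfl)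
  exact split_of_projective _

/-- The point with the algebra structure it induces. -/
def ptOf {R : CommRingCat.{u}} (g : Spec R ⟶ X) :
    letI := (alg f g).toAlgebra; BrSev.Pts f R :=
  letI := (alg f g).toAlgebra
  ⟨g, (map_alg f g).symm⟩

/-- The ideal of a point. -/
def ideal {R : CommRingCat.{u}} (g : Spec R ⟶ X) : Submodule R (Fin m → R) :=
  letI := (alg f g).toAlgebra
  ideal' f b σ (ptOf f g)

theorem ideal_eq {R : CommRingCat.{u}} [halg : Algebra k R] (g : BrSev.Pts f R) :
    ideal f b σ g.1 = ideal' f b σ g := by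
  obtain ⟨g, hg⟩ := g
  obtain rfl : halg = (alg f g).toAlgebra :=
    Algebra.algebra_ext _ _ fun r =>
      (DFunLike.congr_fun (congrArg CommRingCat.Hom.hom
        (Spec.map_injective ((map_alg f g).trans hg))) r).symm
  rfl

/-- The annihilator of the ideal of a point. -/
def T {R : CommRingCat.{u}} (g : Spec R ⟶ X) : Submodule R (Fin m → R) := perp (ideal f b σ g)

theorem split_ideal {R : CommRingCat.{u}} (g : Spec R ⟶ X) : Split (ideal f b σ g) :=
  letI := (alg f g).toAlgebra
  split_ideal' f b σ (ptOf f g)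

theorem ideal_comp {R S : CommRingCat.{u}} (g : Spec R ⟶ X) (φ : R ⟶ S) :
    ideal f b σ (Spec.map φ ≫ g) = bc φ.hom (ideal f b σ g) := by
  letI := (alg f g).toAlgebra
  letI : Algebra k S := (φ.hom.comp (alg f g)).toAlgebra
  let ψ : (R : Type u) →ₐ[k] (S : Type u) := { φ.hom with commutes' := fun _ => rfl }
  have h := ideal'_map f b σ ψ (ptOf f g)
  exact (ideal_eq f b σ (BrSev.Pts.map f ψ (ptOf f g))).trans h

theorem T_comp {R S : CommRingCat.{u}} (g : Spec R ⟶ X) (φ : R ⟶ S) :
    T f b σ (Spec.map φ ≫ g) = bc φ.hom (T f b σ g) := by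
  rw [T, ideal_comp, perp_bc _ (split_ideal f b σ g), T]

theorem split_T {R : CommRingCat.{u}} (g : Spec R ⟶ X) : Split (T f b σ g) :=
  split_perp (split_ideal f b σ g)

theorem T_stable {R : CommRingCat.{u}} (g : Spec R ⟶ X) (a : A) {v : Fin m → R} (hv : v ∈ T f b σ g) :
    ((lmat b a).map (alg f g))ᵀ *ᵥ v ∈ T f b σ g := by
  letI := (alg f g).toAlgebra
  refine perp_stable _ ?_ hv
  rintro _ ⟨x, hx, rfl⟩
  exact ⟨(1 ⊗ₜ[k] a) * x, (σ.bij R (ptOf f g)).2 _ _ hx, (lmat_mulVec b R a x).symm⟩

/-- A point is determined by its annihilator. -/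
theorem T_injective {R : CommRingCat.{u}} {g g' : Spec R ⟶ X} (hf : g ≫ f = g' ≫ f)
    (h : T f b σ g = T f b σ g') : g = g' := by
  have h' : ideal f b σ g = ideal f b σ g' := by
    rw [← perp_perp (split_ideal f b σ g), ← perp_perp (split_ideal f b σ g')]
    exact congrArg perp h
  letI := (alg f g).toAlgebra
  let p' : BrSev.Pts f R := ⟨g', hf.symm.trans (map_alg f g).symm⟩
  have h1 : ideal' f b σ (ptOf f g) = ideal' f b σ p' := h'.trans (ideal_eq f b σ p')
  have h2 := Submodule.map_injective_of_injective (coords b R).injective h1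
  exact congrArg Subtype.val ((σ.bij R).injective (SBAut.sbSet_ext h2))

end Groth.Agent.Lib.SBTaut
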