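import Groth.Agent.Lib.SBTaut.Rows
import Groth.Agent.S14215
import Groth.Agent.H34.SplitP1.Bundle

/-!
# Bundles on a Severi–Brauer scheme of an algebra of index two
-/

set_option autoImplicit false
set_option linter.style.haveILetI false
universe u

open CategoryTheory CategoryTheory.Limits AlgebraicGeometry

noncomputable section

namespace Groth.Agent.Lib.SBTaut.IndexTwo

open Groth.Agent.Lib CohDelta Groth.Agent.Lib.Brauer

/-- A coproduct over a sum. -/
def sumIso {X : Scheme.{u}} {α β : Type} [Finite α] [Finite β] (M : α ⊕ β → X.Modules) :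
    ∐ M ≅ (∐ fun a => M (.inl a)) ⊞ (∐ fun b => M (.inr b)) where
  hom := Sigma.desc fun
    | .inl a => Sigma.ι (fun a => M (.inl a)) a ≫ biprod.inl
    | .inr b => Sigma.ι (fun b => M (.inr b)) b ≫ biprod.inr
  inv := biprod.desc (Sigma.desc fun a => Sigma.ι M (.inl a)) (Sigma.desc fun b => Sigma.ι M (.inr b))
  hom_inv_id := Sigma.hom_ext _ _ fun c => by cases c <;> simp
  inv_hom_id := by
    apply biprod.hom_ext'
    · refine Sigma.hom_ext _ _ fun a => ?_
      simp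
    · refine Sigma.hom_ext _ _ fun b => ?_
      simp

variable {k : Type u} [Field k] {X : Scheme.{u}} (f : X ⟶ Spec (CommRingCat.of k)) [IsProper f]
  {A : Type u} [Ring A] [Algebra k A] [Algebra.IsCentral k A] [IsSimpleRing A] {K : Type u} [Field K]
  [Algebra k K] [IsAlgClosure k K] {N : ℕ} (hX : BrSev.IsSBOf k A ((N + 1) * (N + 1) - (N + 1)) f)
  (hA : Module.finrank k A = (N + 1) * (N + 1)) (e : BrSev.Splitting f K N)

include hX hA in
theorem mult_eq (hi : CSAGal.IsIndex k A 2) {W : X.Modules} (hW : FlatMod.IsFinLocFree W)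
    (hWi : KS.Ind W) (j : ℤ) {r : ℕ} (hr : 0 < r) (hWt : BrSev.IsTwPow e j r W) :
    r = 2 / Nat.gcd 2 j.natAbs := by
  haveI : FiniteDimensional k A := finiteDimensional_of_finrank hA
  obtain ⟨p, hp, hpd⟩ := Period.exists_period hi
  have hp2 : p = 2 := by
    rcases (Nat.dvd_prime Nat.prime_two).mp hpd with h | h
    · subst h
      have hs : Curves.Splits k A k := Brauer.BEq.splits_of_beq_base
        ((Brauer.BEq.of_algEquiv (TPow.tpowOne k A)).symm.trans (Brauer.BEq.of_splits hp.2.1))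
      exact absurd ((Index.splits_iff_index_one hi).mp hs) (by norm_num)
    · exact h
  subst hp2
  exact Rows.index_tpow_of_period_eq_index A hp hi _ (Rows.isIndex f hX hA e hW hWi j hr hWt)

include hX hA in
theorem decomp (hi : CSAGal.IsIndex k A 2) (E : X.Modules) (hE : FlatMod.IsFinLocFree E)
    (s₀ : ℕ) (Ns : Fin s₀ → (BrSev.bc f K).Modules) (hNs : ∀ i, PicF.IsInvertible (Ns i))
    (hsplit : Nonempty (BrSev.bcMod f K E ≅ ∐ Ns)) :
    ∃ (s t : ℕ) (Ls : Fin s → X.Modules) (Ms : Fin t → X.Modules) (a : Fin s → ℤ) (b : Fin t → ℤ),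
      (∀ i, PicF.IsInvertible (Ls i) ∧ BrSev.IsTwPow e (2 * a i) 1 (Ls i)) ∧
      (∀ i, FlatMod.IsFinLocFree (Ms i) ∧
        (¬ IsZero (Ms i) ∧ ∀ M₁ M₂ : X.Modules, Nonempty ((Ms i) ≅ M₁ ⊞ M₂) → IsZero M₁ ∨ IsZero M₂) ∧
        BrSev.IsTwPow e (2 * b i + 1) 2 (Ms i)) ∧
      Nonempty (E ≅ (∐ Ls) ⊞ (∐ Ms)) := by
  classical
  obtain ⟨T, Ms, js, rs, hMs, ⟨φ⟩⟩ :=
    Groth.Agent.S14215.result k A (N + 1) N.succ_pos hA f hX K e E hE s₀ Ns hNs hsplit
  let P : Fin T → Prop := fun i => Even (js i)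
  let σ : Fin (Fintype.card {i // P i}) ⊕ Fin (Fintype.card {i // ¬ P i}) ≃ Fin T :=
    ((Fintype.equivFin {i // P i}).symm.sumCongr (Fintype.equivFin {i // ¬ P i}).symm).trans
      (Equiv.sumCompl P)
  have hl : ∀ a, Even (js (σ (.inl a))) := fun a => ((Fintype.equivFin {i // P i}).symm a).2
  have hr : ∀ b, ¬ Even (js (σ (.inr b))) := fun b => ((Fintype.equivFin {i // ¬ P i}).symm b).2
  have hev : ∀ i, Even (js i) → rs i = 1 := fun i h => by
    rw [mult_eq f hX hA e hi (hMs i).1 (hMs i).2.1 _ (hMs i).2.2.1 (hMs i).2.2.2,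
      Nat.gcd_eq_left (even_iff_two_dvd.mp (Int.natAbs_even.mpr h)), Nat.div_self two_pos]
  have hod : ∀ i, ¬ Even (js i) → rs i = 2 := fun i h => by
    rw [mult_eq f hX hA e hi (hMs i).1 (hMs i).2.1 _ (hMs i).2.2.1 (hMs i).2.2.2,
      ((Nat.prime_two.coprime_iff_not_dvd).mpr (fun hd => h (Int.natAbs_even.mp (even_iff_two_dvd.mpr hd)))).gcd_eq_one, Nat.div_one]
  refine ⟨_, _, fun a => Ms (σ (.inl a)), fun b => Ms (σ (.inr b)), fun a => js (σ (.inl a)) / 2,
    fun b => js (σ (.inr b)) / 2, fun a => ?_, fun b => ?_,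
    ⟨φ ≪≫ (Sigma.whiskerEquiv σ (fun _ => Iso.refl _)).symm ≪≫ sumIso (fun c => Ms (σ c))⟩⟩
  · have ht := (hMs (σ (.inl a))).2.2.2
    rw [hev _ (hl a)] at ht
    refine ⟨Rows.isInvertible_of_bc f (hMs (σ (.inl a))).1 (SBTwist.isInvertible_twist f e _) ht.some, ?_⟩
    rwa [Int.mul_ediv_cancel' (hl a).two_dvd]
  · have ht := (hMs (σ (.inr b))).2.2.2
    rw [hod _ (hr b)] at ht
    refine ⟨(hMs (σ (.inr b))).1, (hMs (σ (.inr b))).2.1, ?_⟩
    rwa [Int.two_mul_ediv_two_add_one_of_odd (Int.not_even_iff_odd.mp (hr b))]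

/-- Bundles on a form of the projective line are absolutely split. -/
theorem split_of_line (f : X ⟶ Spec (CommRingCat.of k)) [IsProper f] (e : BrSev.Splitting f K 1)
    (E : X.Modules) (hE : FlatMod.IsFinLocFree E) :
    ∃ (s : ℕ) (Ns : Fin s → (BrSev.bc f K).Modules), (∀ i, PicF.IsInvertible (Ns i)) ∧
      Nonempty (BrSev.bcMod f K E ≅ ∐ Ns) := by
  haveI : IsAlgClosed K := IsAlgClosure.isAlgClosed k
  haveI := SBTwist.isIntegral_bc f e
  obtain ⟨r, hr⟩ := KAugNil98.Main.exists_rank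
    (TensorMod.LocFree.isFinLocFree_pullback (BrSev.proj f K) hE)
  obtain ⟨d, -, ⟨i⟩⟩ := Groth.Agent.H34.SplitP1.exists_splitting
    (TensorMod.LocFree.rank_pullback e.iso.inv hr)
  haveI : PreservesColimitsOfSize.{0, 0} (Scheme.Modules.pullback e.iso.hom) :=
    preservesSmallestColimits_of_preservesColimits _
  refine ⟨r, fun j => e.twist (d j), fun j => SBTwist.isInvertible_twist f e _, ⟨?_⟩⟩
  exact ((Scheme.Modules.pullbackId _).app _).symm ≪≫
    (Scheme.Modules.pullbackCongr e.iso.hom_inv_id.symm).app _ ≪≫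
    ((Scheme.Modules.pullbackComp e.iso.hom e.iso.inv).app _).symm ≪≫
    (Scheme.Modules.pullback e.iso.hom).mapIso i ≪≫ PreservesCoproduct.iso _ _

end Groth.Agent.Lib.SBTaut.IndexTwo
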