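import Groth.Agent.Lib.SBTaut.Lines
import Groth.Agent.Lib.GrassRep.ProjCoord
import Mathlib.AlgebraicGeometry.Gluing
import Mathlib.AlgebraicGeometry.Properties

/-!
# The isomorphism of projective space with a split Severi–Brauer scheme by lines
-/

set_option autoImplicit false
set_option linter.style.haveILetI false
universe u

open CategoryTheory CategoryTheory.Limits AlgebraicGeometry Matrix
open scoped TensorProduct

noncomputable section

namespace Groth.Agent.Lib.SBTaut

open Groth.Agent.Lib Groth.Agent.Lib.GrassRep ProjSpace.Charts ProjSpace.Basic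
open Groth.Agent.Lib.SBAut (bc IsLine)

/-- A line containing a vector with a unit coordinate is spanned by it. -/
theorem line_eq_span {R : Type u} [CommRing R] {n : ℕ} {L : Submodule R (Fin n → R)} (hL : IsLine L)
    {w : Fin n → R} (hw : w ∈ L) {i : Fin n} (hu : IsUnit (w i)) : L = Submodule.span R {w} := by
  have hle : Submodule.span R {w} ≤ L := (Submodule.span_singleton_le_iff_mem _ _).mpr hw
  have hS := SBAut.isLine_of_isUnit w i hu
  haveI := hS.projective
  haveI := hL.projective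
  let q : ((Fin n → R) ⧸ Submodule.span R {w}) →ₗ[R] ((Fin n → R) ⧸ L) := Submodule.factor hle
  have hq : Function.Surjective q := Submodule.factor_surjective hle
  obtain ⟨s, hs⟩ := Module.projective_lifting_property q LinearMap.id hq
  have hs' : ∀ x, q (s x) = x := LinearMap.congr_fun hs
  let π : ((Fin n → R) ⧸ Submodule.span R {w}) →ₗ[R] LinearMap.ker q :=
    LinearMap.codRestrict _ (LinearMap.id - s.comp q) fun x => by
      simp [LinearMap.mem_ker, hs']
  have hπ : ∀ x : LinearMap.ker q, π x = x := fun x => Subtype.ext (by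
    show (x : _) - s (q x) = x
    rw [LinearMap.mem_ker.mp x.2, map_zero, sub_zero])
  haveI : Module.Finite R (LinearMap.ker q) := Module.Finite.of_surjective π fun x => ⟨x, hπ x⟩
  haveI : Module.Projective R (LinearMap.ker q) :=
    Module.Projective.of_split (LinearMap.ker q).subtype π (LinearMap.ext hπ)
  let e : ((Fin n → R) ⧸ Submodule.span R {w}) ≃ₗ[R] ((Fin n → R) ⧸ L) × LinearMap.ker q :=
    LinearEquiv.ofLinearMap (q.prod π) (s.coprod (LinearMap.ker q).subtype)
      (LinearMap.ext fun ⟨a, x⟩ => by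
        have h0 : q x = 0 := LinearMap.mem_ker.mp x.2
        refine Prod.ext ?_ (Subtype.ext ?_)
        · show q (s a + (x : _)) = a
          rw [map_add, hs', h0, add_zero]
        · show (s a + (x : _)) - s (q (s a + (x : _))) = x
          rw [map_add q, hs', h0, add_zero, add_sub_cancel_left])
      (LinearMap.ext fun x => by
        show s (q x) + (x - s (q x)) = x
        rw [add_sub_cancel])
  have h0 : Module.rankAtStalk (R := R) (LinearMap.ker q) = 0 := by
    ext p
    have h := congrFun (Module.rankAtStalk_eq_of_equiv e) p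
    rw [Module.rankAtStalk_prod, Pi.add_apply, hS.rank, hL.rank] at h
    simp only [Pi.zero_apply]
    omega
  rw [Module.rankAtStalk_eq_zero_iff_subsingleton] at h0
  refine le_antisymm (fun x hx => ?_) hle
  have : (⟨Submodule.Quotient.mk x, LinearMap.mem_ker.mpr
      (show q (Submodule.Quotient.mk x) = 0 from (Submodule.Quotient.mk_eq_zero L).mpr hx)⟩ : LinearMap.ker q) = 0 :=
    Subsingleton.elim _ _
  exact (Submodule.Quotient.mk_eq_zero _).mp (congrArg Subtype.val this)

variable {k : Type u} [Field k] {A : Type u} [Ring A] [Algebra k A] {N : ℕ}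
  {X : Scheme.{u}} {f : X ⟶ Spec (CommRingCat.of k)} {K : Type u} [Field K] [Algebra k K]
  (ψ : K ⊗[k] A ≃ₐ[K] Matrix (Fin (N + 1)) (Fin (N + 1)) K)
  (σ : BrSev.SBStr k A ((N + 1) * (N + 1) - (N + 1)) f)

/-- The coordinates on a chart. -/
def chartVec (i : Fin (N + 1)) : Fin (N + 1) → AwayX K i := coord K i

theorem exists_chartHom (i : Fin (N + 1)) :
    ∃ g : Spec (CommRingCat.of (AwayX K i)) ⟶ BrSev.bc f K,
      g ≫ BrSev.bcTo f K = Spec.map (CommRingCat.ofHom (constHom K i)) ∧
      line ψ N.succ_pos σ g = Submodule.span (AwayX K i) {chartVec (K := K) i} :=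
  exists_point ψ N.succ_pos σ (R := CommRingCat.of (AwayX K i)) (constHom K i)
    (SBAut.isLine_of_isUnit (chartVec (K := K) i) i (show IsUnit (coord K i i) by rw [coord_self]; exact isUnit_one))

/-- The morphism on a chart. -/
def chartHom (i : Fin (N + 1)) : Spec (CommRingCat.of (AwayX K i)) ⟶ BrSev.bc f K :=
  (exists_chartHom ψ σ i).choose

theorem chartHom_over (i : Fin (N + 1)) :
    chartHom ψ σ i ≫ BrSev.bcTo f K = Spec.map (CommRingCat.ofHom (constHom K i)) :=
  (exists_chartHom ψ σ i).choose_spec.1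

theorem line_comp_chartHom {T : CommRingCat.{u}} (i : Fin (N + 1))
    (φ : CommRingCat.of (AwayX K i) ⟶ T) :
    line ψ N.succ_pos σ (Spec.map φ ≫ chartHom ψ σ i) = Submodule.span T {φ.hom ∘ chartVec (K := K) i} :=
  (line_comp ψ N.succ_pos σ (chartHom ψ σ i) φ).trans
    ((congrArg (bc φ.hom) (exists_chartHom ψ σ i).choose_spec.2).trans (SBAut.bc_span_singleton _ _))

theorem chartHom_compat {T : CommRingCat.{u}} (i j : Fin (N + 1))
    (u : Spec T ⟶ Spec (CommRingCat.of (AwayX K i))) (u' : Spec T ⟶ Spec (CommRingCat.of (AwayX K j)))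
    (h : u ≫ awayχ K i = u' ≫ awayχ K j) : u ≫ chartHom ψ σ i = u' ≫ chartHom ψ σ j := by
  obtain ⟨φ, rfl⟩ : ∃ φ, Spec.map φ = u := ⟨_, Spec.map_preimage u⟩
  obtain ⟨φ', rfl⟩ : ∃ φ', Spec.map φ' = u' := ⟨_, Spec.map_preimage u'⟩
  have hs := congrArg (fun q => q ≫ CohB1.ProjSpace.toSpec N K) h
  simp only [Category.assoc, awayχ_toSpec, ← Spec.map_comp] at hs
  have hρ : φ.hom.comp (constHom K i) = φ'.hom.comp (constHom K j) :=
    congrArg CommRingCat.Hom.hom (Spec.map_injective hs)
  have hu : IsUnit (φ.hom (coord K i j)) := by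
    by_contra hn
    obtain ⟨P, hP, hle⟩ := Ideal.exists_le_maximal (Ideal.span {φ.hom (coord K i j)})
      (fun e => hn (Ideal.span_singleton_eq_top.mp e))
    let p : Spec T := ⟨P, hP.isPrime⟩
    have h1 : awayχ K i (Spec.map φ p) ∈
        Proj.basicOpen (CohB1.polyGrading N K) (MvPolynomial.X j : MvPolynomial (Fin (N + 1)) K) := by
      rw [← opensRange_awayχ]
      exact ⟨Spec.map φ' p, (congrArg (fun q : Spec T ⟶ CohB1.ProjSpace N K => q p) h).symm⟩
    exact (ProjCoord.mem_preimage_awayχ (Z := K) i j _).mp h1 (hle (Ideal.mem_span_singleton_self _))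
  let ρ : K →+* T := φ.hom.comp (constHom K i)
  let w : Fin (N + 1) → T := φ.hom ∘ chartVec (K := K) i
  have hwi : w i = 1 := by simp [w, chartVec, coord_self]
  have h1 : φ.hom = ProjCoord.evalChart ρ i w (hwi ▸ isUnit_one) := ProjCoord.hom_ext
    (fun r => (ProjCoord.evalChart_const ρ i w _ r).symm) fun l =>
      (ProjCoord.evalChart_coord_of_eq_one ρ i l w _ hwi).symm
  have hglue := ProjCoord.evalChart_glue ρ i j w (hwi ▸ isUnit_one) hu
  rw [← h1] at hglue
  have hφ' : φ' = CommRingCat.ofHom (ProjCoord.evalChart ρ j w hu) := Spec.map_injective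
    ((cancel_mono (awayχ K j)).mp (h.symm.trans hglue))
  refine line_injective ψ N.succ_pos σ ?_ ?_
  · simp only [Category.assoc, chartHom_over, ← Spec.map_comp]
    exact congrArg Spec.map (CommRingCat.hom_ext hρ)
  · rw [line_comp_chartHom, line_comp_chartHom]
    have hw : w = hu.unit • (φ'.hom ∘ chartVec (K := K) j) := funext fun l => by
      rw [hφ']
      exact (ProjCoord.evalChart_coord ρ j l w hu).symm
    change Submodule.span T {w} = _
    rw [hw]
    exact Submodule.span_singleton_group_smul_eq T hu.unit _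

theorem chartHom_cancel {T : CommRingCat.{u}} (i j : Fin (N + 1))
    (u : Spec T ⟶ Spec (CommRingCat.of (AwayX K i))) (u' : Spec T ⟶ Spec (CommRingCat.of (AwayX K j)))
    (h : u ≫ chartHom ψ σ i = u' ≫ chartHom ψ σ j) : u ≫ awayχ K i = u' ≫ awayχ K j := by
  obtain ⟨φ, rfl⟩ : ∃ φ, Spec.map φ = u := ⟨_, Spec.map_preimage u⟩
  obtain ⟨φ', rfl⟩ : ∃ φ', Spec.map φ' = u' := ⟨_, Spec.map_preimage u'⟩
  have hs := congrArg (fun q => q ≫ BrSev.bcTo f K) h
  simp only [Category.assoc, chartHom_over, ← Spec.map_comp] at hs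
  have hρ : φ.hom.comp (constHom K i) = φ'.hom.comp (constHom K j) :=
    congrArg CommRingCat.Hom.hom (Spec.map_injective hs)
  have hl := congrArg (line ψ N.succ_pos σ) h
  rw [line_comp_chartHom, line_comp_chartHom] at hl
  let ρ : K →+* T := φ.hom.comp (constHom K i)
  let w : Fin (N + 1) → T := φ.hom ∘ chartVec (K := K) i
  let w' : Fin (N + 1) → T := φ'.hom ∘ chartVec (K := K) j
  have hwi : w i = 1 := by simp [w, chartVec, coord_self]
  have hwj : w' j = 1 := by simp [w', chartVec, coord_self]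
  obtain ⟨a, ha⟩ := Submodule.mem_span_singleton.mp (hl ▸ Submodule.mem_span_singleton_self w' : w' ∈ Submodule.span T {w})
  have haj : a * w j = 1 := (congrFun ha j).trans hwj
  have hu : IsUnit (w j) := isUnit_iff_exists_inv.mpr ⟨a, by rw [mul_comm]; exact haj⟩
  have h1 : φ.hom = ProjCoord.evalChart ρ i w (hwi ▸ isUnit_one) := ProjCoord.hom_ext
    (fun r => (ProjCoord.evalChart_const ρ i w _ r).symm) fun l =>
      (ProjCoord.evalChart_coord_of_eq_one ρ i l w _ hwi).symm
  have hglue := ProjCoord.evalChart_glue ρ i j w (hwi ▸ isUnit_one) hu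
  rw [← h1] at hglue
  have hφ' : φ'.hom = ProjCoord.evalChart ρ j w hu := ProjCoord.hom_ext
    (fun r => (DFunLike.congr_fun hρ r).symm.trans (ProjCoord.evalChart_const ρ j w _ r).symm) fun l => by
      refine hu.mul_left_cancel ?_
      rw [ProjCoord.evalChart_coord]
      show w j * w' l = w l
      rw [← ha]
      show w j * (a * w l) = w l
      rw [← mul_assoc, mul_comm (w j), haj, one_mul]
  refine hglue.trans ?_
  rw [← hφ']
  rfl

/-- Locally a point of `X_K` comes from a chart. -/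
theorem exists_local (y : (BrSev.bc f K : Scheme.{u})) :
    ∃ (V : (BrSev.bc f K : Scheme.{u}).Opens) (hV : IsAffineOpen V), y ∈ V ∧
      ∃ (i : Fin (N + 1)) (u : Spec Γ(BrSev.bc f K, V) ⟶ Spec (CommRingCat.of (AwayX K i))),
        u ≫ chartHom ψ σ i = hV.fromSpec := by
  obtain ⟨U, hU, hy, -⟩ := exists_isAffineOpen_mem_and_subset (TopologicalSpace.Opens.mem_top y)
  let L := line ψ N.succ_pos σ hU.fromSpec
  haveI := (isLine_line ψ N.succ_pos σ hU.fromSpec).projective
  obtain ⟨s, hs⟩ := (split_of_projective L).eq_span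
  let p := (hU.primeIdealOf ⟨y, hy⟩).asIdeal
  haveI : Nontrivial Γ(BrSev.bc f K, U) := ⟨⟨0, 1, fun e => (Ideal.ne_top_iff_one p).mp
    (hU.primeIdealOf ⟨y, hy⟩).isPrime.ne_top (e ▸ p.zero_mem)⟩⟩
  obtain ⟨l, i, hli⟩ : ∃ l i, s l i ∉ p := by
    by_contra! hc
    let Q := Ideal.Quotient.mk p
    haveI : Nontrivial (Γ(BrSev.bc f K, U) ⧸ p) :=
      Ideal.Quotient.nontrivial_iff.mpr (hU.primeIdealOf ⟨y, hy⟩).isPrime.ne_top
    have h0 : bc Q L = ⊥ := by
      rw [hs, bc_span, Submodule.span_eq_bot]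
      rintro _ ⟨l, rfl⟩
      exact funext fun i => Ideal.Quotient.eq_zero_iff_mem.mpr (hc l i)
    have hline := SBAut.isLine_bc Q (isLine_line ψ N.succ_pos σ hU.fromSpec)
    rw [show line ψ N.succ_pos σ hU.fromSpec = L from rfl, h0] at hline
    obtain ⟨P, hP⟩ := Ideal.exists_maximal (Γ(BrSev.bc f K, U) ⧸ p)
    have hr := hline.rank ⟨P, hP.isPrime⟩
    rw [Module.rankAtStalk_eq_of_equiv (Submodule.quotEquivOfEqBot ⊥ rfl),
      Module.rankAtStalk_eq_finrank_of_free, Pi.natCast_apply, Module.finrank_fin_fun] at hr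
    simp at hr
  let V := (BrSev.bc f K : Scheme.{u}).basicOpen (s l i)
  have hV : IsAffineOpen V := hU.basicOpen (s l i)
  have hyV : y ∈ V := by
    have : hU.primeIdealOf ⟨y, hy⟩ ∈ hU.fromSpec ⁻¹ᵁ V := by
      rw [hU.fromSpec_preimage_basicOpen]; exact hli
    change hU.fromSpec (hU.primeIdealOf ⟨y, hy⟩) ∈ V at this
    rwa [hU.fromSpec_primeIdealOf] at this
  have hle : V ≤ U := (BrSev.bc f K : Scheme.{u}).basicOpen_le (s l i)
  let r := (BrSev.bc f K : Scheme.{u}).presheaf.map (homOfLE hle).op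
  have hmap : Spec.map r ≫ hU.fromSpec = hV.fromSpec := hU.map_fromSpec hV _
  let w : Fin (N + 1) → Γ(BrSev.bc f K, V) := r.hom ∘ s l
  have hwu : IsUnit (w i) := (BrSev.bc f K : Scheme.{u}).toRingedSpace.isUnit_res_basicOpen (s l i)
  have hwL : w ∈ line ψ N.succ_pos σ hV.fromSpec := by
    rw [← hmap, line_comp]
    exact SBAut.comp_mem_bc _ (show s l ∈ L from hs ▸ Submodule.subset_span ⟨l, rfl⟩)
  let ρ := alg (BrSev.bcTo f K) hV.fromSpec
  refine ⟨V, hV, hyV, i, Spec.map (CommRingCat.ofHom (ProjCoord.evalChart ρ i w hwu)), ?_⟩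
  refine line_injective ψ N.succ_pos σ ?_ ?_
  · rw [Category.assoc, chartHom_over, ← Spec.map_comp, ← map_alg (BrSev.bcTo f K) hV.fromSpec]
    exact congrArg Spec.map (CommRingCat.hom_ext (RingHom.ext fun x => ProjCoord.evalChart_const ρ i w hwu x))
  · rw [line_comp_chartHom, line_eq_span (isLine_line ψ N.succ_pos σ hV.fromSpec) hwL hwu]
    have hw : w = hwu.unit • ((CommRingCat.ofHom (ProjCoord.evalChart ρ i w hwu)).hom ∘ chartVec (K := K) i) :=
      funext fun l' => (ProjCoord.evalChart_coord ρ i l' w hwu).symm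
    conv_rhs => rw [hw]
    exact (Submodule.span_singleton_group_smul_eq _ hwu.unit _).symm

/-- The standard cover. -/
def coverP : (CohB1.ProjSpace N K).OpenCover :=
  Scheme.Cover.mkOfCovers (P := @IsOpenImmersion) (Fin (N + 1)) _ (fun i => awayχ K i) (fun y => by
    obtain ⟨i, hi⟩ := exists_mem_opensRange_chartι N K y
    rw [opensRange_chartι, ← opensRange_awayχ] at hi
    exact ⟨i, hi⟩) (fun _ => inferInstance)

/-- Lines give an isomorphism of projective space with `X_K`. -/
theorem exists_iso : ∃ θ : CohB1.ProjSpace N K ⟶ BrSev.bc f K, IsIso θ ∧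
    θ ≫ BrSev.bcTo f K = CohB1.ProjSpace.toSpec N K ∧ ∀ i, awayχ K i ≫ θ = chartHom ψ σ i := by
  classical
  choose V hV hyV i u hu using fun y => exists_local ψ σ y
  let 𝒱 : (BrSev.bc f K : Scheme.{u}).OpenCover :=
    Scheme.Cover.mkOfCovers (P := @IsOpenImmersion) (BrSev.bc f K : Scheme.{u}) _
      (fun y => (hV y).fromSpec) (fun y => by
        have hy := hyV y
        rw [← SetLike.mem_coe, ← (hV y).range_fromSpec] at hy
        obtain ⟨z, hz⟩ := hy
        exact ⟨y, z, hz⟩) (fun _ => inferInstance)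
  have hθ : ∀ a b : (coverP (N := N) (K := K)).I₀,
      pullback.fst ((coverP (N := N) (K := K)).f a) ((coverP (N := N) (K := K)).f b) ≫ chartHom ψ σ a =
        pullback.snd ((coverP (N := N) (K := K)).f a) ((coverP (N := N) (K := K)).f b) ≫ chartHom ψ σ b := fun a b => by
    let 𝒲 := (pullback ((coverP (N := N) (K := K)).f a) ((coverP (N := N) (K := K)).f b)).affineCover
    refine 𝒲.hom_ext _ _ fun z => ?_
    have hc := congrArg (fun q => 𝒲.f z ≫ q)
      (pullback.condition (f := (coverP (N := N) (K := K)).f a) (g := (coverP (N := N) (K := K)).f b))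
    simp only [← Category.assoc] at hc ⊢
    exact chartHom_compat ψ σ a b _ _ hc
  let θ := (coverP (N := N) (K := K)).glueMorphisms (fun a => chartHom ψ σ a) hθ
  have hθc : ∀ a, awayχ K a ≫ θ = chartHom ψ σ a := fun a =>
    (coverP (N := N) (K := K)).ι_glueMorphisms _ hθ a
  have hr : ∀ a b : 𝒱.I₀, pullback.fst (𝒱.f a) (𝒱.f b) ≫ u a ≫ awayχ K (i a) =
      pullback.snd (𝒱.f a) (𝒱.f b) ≫ u b ≫ awayχ K (i b) := fun a b => by
    let 𝒲 := (pullback (𝒱.f a) (𝒱.f b)).affineCover
    refine 𝒲.hom_ext _ _ fun z => ?_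
    have hc : 𝒲.f z ≫ pullback.fst (𝒱.f a) (𝒱.f b) ≫ (hV a).fromSpec =
        𝒲.f z ≫ pullback.snd (𝒱.f a) (𝒱.f b) ≫ (hV b).fromSpec :=
      congrArg (fun q => 𝒲.f z ≫ q) (pullback.condition (f := 𝒱.f a) (g := 𝒱.f b))
    rw [← hu a, ← hu b] at hc
    simp only [← Category.assoc] at hc ⊢
    exact chartHom_cancel ψ σ (i a) (i b) _ _ hc
  let r := 𝒱.glueMorphisms (fun a => u a ≫ awayχ K (i a)) hr
  have hrc : ∀ a, (hV a).fromSpec ≫ r = u a ≫ awayχ K (i a) := fun a => 𝒱.ι_glueMorphisms _ hr a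
  have h1 : r ≫ θ = 𝟙 _ := 𝒱.hom_ext _ _ fun a => by
    show (hV a).fromSpec ≫ r ≫ θ = (hV a).fromSpec ≫ 𝟙 _
    rw [← Category.assoc, hrc, Category.assoc, hθc, hu, Category.comp_id]
  have h2 : θ ≫ r = 𝟙 _ := (coverP (N := N) (K := K)).hom_ext _ _ fun a => by
    show awayχ K a ≫ θ ≫ r = awayχ K a ≫ 𝟙 _
    rw [← Category.assoc, hθc, Category.comp_id]
    refine Scheme.Cover.hom_ext (𝒱.pullback₁ (chartHom ψ σ a)) _ _ fun b => ?_
    refine ((𝒱.pullback₁ (chartHom ψ σ a)).X b).affineCover.hom_ext _ _ fun z => ?_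
    let v := ((𝒱.pullback₁ (chartHom ψ σ a)).X b).affineCover.f z
    show v ≫ pullback.fst (chartHom ψ σ a) (𝒱.f b) ≫ chartHom ψ σ a ≫ r =
      v ≫ pullback.fst (chartHom ψ σ a) (𝒱.f b) ≫ awayχ K a
    have hc : v ≫ pullback.fst (chartHom ψ σ a) (𝒱.f b) ≫ chartHom ψ σ a =
        v ≫ pullback.snd (chartHom ψ σ a) (𝒱.f b) ≫ (hV b).fromSpec :=
      congrArg (fun q => v ≫ q) (pullback.condition (f := chartHom ψ σ a) (g := 𝒱.f b))
    have hc' := hc
    rw [← hu b] at hc'
    simp only [← Category.assoc] at hc' ⊢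
    refine Eq.trans ?_ (chartHom_cancel ψ σ a (i b) (v ≫ pullback.fst (chartHom ψ σ a) (𝒱.f b))
      ((v ≫ pullback.snd (chartHom ψ σ a) (𝒱.f b)) ≫ u b) (hc'.trans (Category.assoc _ _ _).symm)).symm
    simp only [Category.assoc]
    refine Eq.trans ?_ (congrArg (fun q => v ≫ pullback.snd (chartHom ψ σ a) (𝒱.f b) ≫ q) (hrc b))
    have hc2 := congrArg (fun q => q ≫ r) hc
    simp only [Category.assoc] at hc2
    exact hc2
  refine ⟨θ, ⟨r, h2, h1⟩, (coverP (N := N) (K := K)).hom_ext _ _ fun a => ?_, hθc⟩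
  show awayχ K a ≫ θ ≫ BrSev.bcTo f K = awayχ K a ≫ _
  rw [← Category.assoc, hθc, chartHom_over, awayχ_toSpec]

end Groth.Agent.Lib.SBTaut
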