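import Groth.Agent.Lib.SBTaut.Family

/-!
# The lines of the points of a split Severi–Brauer scheme
-/

set_option autoImplicit false
set_option linter.style.haveILetI false
universe u

open CategoryTheory CategoryTheory.Limits AlgebraicGeometry Matrix
open scoped TensorProduct

noncomputable section

namespace Groth.Agent.Lib.SBTaut

open Groth.Agent.Lib Groth.Agent.Lib.GrassRep
open Groth.Agent.Lib.SBAut (bc toL ofL psi IsLine)

variable {k : Type u} [Field k] {A : Type u} [Ring A] [Algebra k A] {n : ℕ}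
  {X : Scheme.{u}} {f : X ⟶ Spec (CommRingCat.of k)} {K : Type u} [Field K] [Algebra k K]
  (ψ : K ⊗[k] A ≃ₐ[K] Matrix (Fin n) (Fin n) K) (hn : 0 < n)
  (σ : BrSev.SBStr k A (n * n - n) f)

/-- The line of a point, for given algebra structures. -/
def line' {R : Type u} [CommRing R] [Algebra K R] [Algebra k R] [IsScalarTower k K R]
    (p : pt K R ⟶ Over.mk (BrSev.bcTo f K)) : Submodule R (Fin n → R) :=
  toL ψ hn R (σ.bij R (SBAut.bcPtsEquiv f K R p)).1.toSubmodule

/-- A point as a point over `K`. -/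
def ovPt {R : CommRingCat.{u}} (g : Spec R ⟶ BrSev.bc f K) :
    letI := (alg (BrSev.bcTo f K) g).toAlgebra
    pt K R ⟶ Over.mk (BrSev.bcTo f K) :=
  letI := (alg (BrSev.bcTo f K) g).toAlgebra
  Over.homMk g (map_alg (BrSev.bcTo f K) g).symm

/-- The line of a point. -/
def line {R : CommRingCat.{u}} (g : Spec R ⟶ BrSev.bc f K) : Submodule R (Fin n → R) :=
  letI := (alg (BrSev.bcTo f K) g).toAlgebra
  letI : Algebra k R := ((alg (BrSev.bcTo f K) g).comp (algebraMap k K)).toAlgebra
  haveI : IsScalarTower k K R := IsScalarTower.of_algebraMap_eq' rfl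
  line' ψ hn σ (ovPt g)

theorem line_eq {R : CommRingCat.{u}} [hK : Algebra K R] [hk : Algebra k R] [htow : IsScalarTower k K R]
    (p : pt K R ⟶ Over.mk (BrSev.bcTo f K)) : line ψ hn σ p.left = line' ψ hn σ p := by
  suffices h : ∀ (g : Spec R ⟶ BrSev.bc f K)
      (w : g ≫ BrSev.bcTo f K = Spec.map (CommRingCat.ofHom (algebraMap K R))),
      line ψ hn σ g = line' ψ hn σ (Over.homMk g w : pt K R ⟶ Over.mk (BrSev.bcTo f K)) from h p.left (Over.w p)
  clear p
  intro g w
  obtain rfl : hK = (alg (BrSev.bcTo f K) g).toAlgebra :=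
    @Algebra.algebra_ext _ _ _ _ hK _ fun r =>
      (DFunLike.congr_fun (congrArg CommRingCat.Hom.hom
        (Spec.map_injective ((map_alg (BrSev.bcTo f K) g).trans w))) r).symm
  letI := (alg (BrSev.bcTo f K) g).toAlgebra
  obtain rfl : hk = ((alg (BrSev.bcTo f K) g).comp (algebraMap k K)).toAlgebra :=
    Algebra.algebra_ext _ _ fun r => IsScalarTower.algebraMap_apply k K R r
  rfl

theorem isLine_line {R : CommRingCat.{u}} (g : Spec R ⟶ BrSev.bc f K) : IsLine (line ψ hn σ g) :=
  letI := (alg (BrSev.bcTo f K) g).toAlgebra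
  letI : Algebra k R := ((alg (BrSev.bcTo f K) g).comp (algebraMap k K)).toAlgebra
  haveI : IsScalarTower k K R := IsScalarTower.of_algebraMap_eq' rfl
  SBAut.isLine_toL ψ hn R _

theorem line_comp {R S : CommRingCat.{u}} (g : Spec R ⟶ BrSev.bc f K) (φ : R ⟶ S) :
    line ψ hn σ (Spec.map φ ≫ g) = bc φ.hom (line ψ hn σ g) := by
  letI := (alg (BrSev.bcTo f K) g).toAlgebra
  letI : Algebra k R := ((alg (BrSev.bcTo f K) g).comp (algebraMap k K)).toAlgebra
  haveI : IsScalarTower k K R := IsScalarTower.of_algebraMap_eq' rfl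
  letI : Algebra K S := (φ.hom.comp (alg (BrSev.bcTo f K) g)).toAlgebra
  letI : Algebra k S := ((φ.hom.comp (alg (BrSev.bcTo f K) g)).comp (algebraMap k K)).toAlgebra
  haveI : IsScalarTower k K S := IsScalarTower.of_algebraMap_eq' rfl
  let χ : (R : Type u) →ₐ[K] (S : Type u) := { φ.hom with commutes' := fun _ => rfl }
  let p' : pt K S ⟶ Over.mk (BrSev.bcTo f K) :=
    (Over.homMk (Sp χ) (Sp_str χ) : pt K S ⟶ pt K R) ≫ ovPt g
  refine (line_eq ψ hn σ p').trans ?_
  have hp : SBAut.bcPtsEquiv f K S p' =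
      BrSev.Pts.map f (χ.restrictScalars k) (SBAut.bcPtsEquiv f K R (ovPt g)) := Subtype.ext (by
    show (Spec.map φ ≫ g) ≫ BrSev.proj f K = Spec.map φ ≫ (g ≫ BrSev.proj f K)
    rw [Category.assoc])
  show toL ψ hn S (σ.bij S (SBAut.bcPtsEquiv f K S p')).1.toSubmodule = _
  rw [hp, σ.natural, SBAut.map_toSubmodule_eq,
    SBAut.toL_bcT ψ hn χ _ (σ.bij R _).2]
  rfl

theorem line_injective {R : CommRingCat.{u}} {g g' : Spec R ⟶ BrSev.bc f K}
    (hg : g ≫ BrSev.bcTo f K = g' ≫ BrSev.bcTo f K) (h : line ψ hn σ g = line ψ hn σ g') : g = g' := by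
  letI := (alg (BrSev.bcTo f K) g).toAlgebra
  letI : Algebra k R := ((alg (BrSev.bcTo f K) g).comp (algebraMap k K)).toAlgebra
  haveI : IsScalarTower k K R := IsScalarTower.of_algebraMap_eq' rfl
  let p' : pt K R ⟶ Over.mk (BrSev.bcTo f K) :=
    Over.homMk g' (hg.symm.trans (map_alg (BrSev.bcTo f K) g).symm)
  have h1 : line' ψ hn σ (ovPt g) = line' ψ hn σ p' := h.trans (line_eq ψ hn σ p')
  have h2 : σ.bij R (SBAut.bcPtsEquiv f K R (ovPt g)) = σ.bij R (SBAut.bcPtsEquiv f K R p') :=
    SBAut.sbSet_ext (by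
      rw [← SBAut.ofL_toL ψ hn R (σ.bij R _).2, ← SBAut.ofL_toL ψ hn R (σ.bij R (SBAut.bcPtsEquiv f K R p')).2]
      exact congrArg (ofL ψ R) h1)
  exact congrArg Over.Hom.left ((SBAut.bcPtsEquiv f K R).injective ((σ.bij R).injective h2))

theorem exists_point {R : CommRingCat.{u}} (ρ : K →+* R) {L : Submodule R (Fin n → R)} (hL : IsLine L) :
    ∃ g : Spec R ⟶ BrSev.bc f K,
      g ≫ BrSev.bcTo f K = Spec.map (CommRingCat.ofHom ρ) ∧ line ψ hn σ g = L := by
  letI := ρ.toAlgebra
  letI : Algebra k R := (ρ.comp (algebraMap k K)).toAlgebra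
  haveI : IsScalarTower k K R := IsScalarTower.of_algebraMap_eq' rfl
  let p := (SBAut.bcPtsEquiv f K R).symm ((σ.bij R).symm (SBAut.ofLSet ψ R L hL))
  refine ⟨p.left, Over.w p, (line_eq ψ hn σ p).trans ?_⟩
  show toL ψ hn R (σ.bij R (SBAut.bcPtsEquiv f K R p)).1.toSubmodule = L
  simp only [p, Equiv.apply_symm_apply]
  exact SBAut.toL_ofL ψ hn R L

variable {m : ℕ} (b : Module.Basis (Fin m) k A)

/-- The functional of matrix units on coordinates. -/
def unitCoords (a l : Fin n) : Fin m → K := coords b K (ψ.symm (Matrix.single a l 1))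

/-- The annihilator of a point in terms of its line. -/
theorem mem_T_iff {R : CommRingCat.{u}} (g : Spec R ⟶ BrSev.bc f K) (C : Fin m → R) :
    C ∈ T f b σ (g ≫ BrSev.proj f K) ↔ ∀ v ∈ line ψ hn σ g, ∀ a : Fin n,
      ∑ l, v l * (C ⬝ᵥ (alg (BrSev.bcTo f K) g ∘ unitCoords ψ b a l)) = 0 := by
  letI := (alg (BrSev.bcTo f K) g).toAlgebra
  letI : Algebra k R := ((alg (BrSev.bcTo f K) g).comp (algebraMap k K)).toAlgebra
  haveI : IsScalarTower k K R := IsScalarTower.of_algebraMap_eq' rfl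
  let P := SBAut.bcPtsEquiv f K R (ovPt g)
  have hN : (σ.bij R P).1.toSubmodule = ofL ψ R (line ψ hn σ g) :=
    (SBAut.ofL_toL ψ hn R (σ.bij R P).2).symm
  have hcoord : ∀ a l, alg (BrSev.bcTo f K) g ∘ unitCoords ψ b a l =
      coords b R ((psi ψ R).symm (Matrix.single a l 1)) := fun a l => by
    have h := coords_incl b ((Algebra.ofId K (R : Type u)).restrictScalars k) (ψ.symm (Matrix.single a l (1 : K)))
    have h2 : SBAut.incl A ((Algebra.ofId K (R : Type u)).restrictScalars k) (ψ.symm (Matrix.single a l (1 : K))) =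
        (psi ψ R).symm (Matrix.single a l 1) := by
      refine (psi ψ R).injective ?_
      have h3 := SBAut.psi_incl ψ K (Algebra.ofId K (R : Type u)) (ψ.symm (Matrix.single a l (1 : K)))
      rw [SBAut.psi_self, AlgEquiv.apply_symm_apply] at h3
      rw [AlgEquiv.apply_symm_apply, h3]
      ext i j
      by_cases h : a = i ∧ l = j <;> simp [Matrix.single_apply, h]
    rw [← h2]
    exact h.symm
  have hT : T f b σ (g ≫ BrSev.proj f K) = perp (ideal' f b σ P) := congrArg perp (ideal_eq f b σ P)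
  rw [hT, mem_perp]
  constructor
  · intro h v hv a
    have hx : ∑ l, v l • (psi ψ R).symm (Matrix.single a l 1) ∈ ofL ψ R (line ψ hn σ g) := by
      show psi ψ R _ ∈ SBAut.rowsIn _
      simp only [map_sum, map_smul, AlgEquiv.apply_symm_apply, SBAut.mem_rowsIn]
      intro i
      by_cases hi : i = a
      · subst hi
        convert hv using 1
        funext j
        simp [Matrix.sum_apply, Matrix.single_apply]
      · convert Submodule.zero_mem _ using 1
        funext j
        simp [Matrix.sum_apply, Ne.symm hi]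
    have := h _ ⟨_, hN.symm ▸ hx, rfl⟩
    simp only [hcoord]
    simpa [map_sum, dotProduct_sum] using this
  · rintro h _ ⟨x, hx, rfl⟩
    have hx' : ∀ i, psi ψ R x i ∈ line ψ hn σ g := SBAut.mem_rowsIn.mp (SetLike.ext_iff.mp hN x |>.mp hx)
    have e : x = ∑ a, ∑ l, psi ψ R x a l • (psi ψ R).symm (Matrix.single a l 1) := by
      refine (psi ψ R).injective ?_
      simp only [map_sum, map_smul, AlgEquiv.apply_symm_apply, Matrix.smul_single, smul_eq_mul, mul_one]
      exact Matrix.matrix_eq_sum_single _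
    change C ⬝ᵥ coords b R x = 0
    rw [e]
    simp only [map_sum, map_smul, dotProduct_sum, dotProduct_smul, smul_eq_mul, ← hcoord]
    exact Finset.sum_eq_zero fun a _ => h _ (hx' a) a

end Groth.Agent.Lib.SBTaut
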