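import Groth.Agent.Lib.SBAut.LineBasic
import Mathlib.LinearAlgebra.Matrix.ToLin
import Mathlib.LinearAlgebra.Projection

/-!
# Annihilators of direct summands of `R ^ m`
-/

set_option autoImplicit false
set_option linter.style.haveILetI false
universe u

open Matrix

namespace Groth.Agent.Lib.SBTaut

open Groth.Agent.Lib.SBAut (bc)

variable {R S : Type u} [CommRing R] [CommRing S] {m : ℕ}

/-- The annihilator for the standard pairing. -/
def perp (N : Submodule R (Fin m → R)) : Submodule R (Fin m → R) where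
  carrier := {c | ∀ v ∈ N, c ⬝ᵥ v = 0}
  add_mem' ha hb v hv := by rw [add_dotProduct, ha v hv, hb v hv, add_zero]
  zero_mem' v _ := zero_dotProduct v
  smul_mem' r c hc v hv := by rw [smul_dotProduct, hc v hv, smul_zero]

theorem mem_perp {N : Submodule R (Fin m → R)} {c : Fin m → R} :
    c ∈ perp N ↔ ∀ v ∈ N, c ⬝ᵥ v = 0 := Iff.rfl

/-- `N` is the image of an idempotent matrix. -/
def Split (N : Submodule R (Fin m → R)) : Prop :=
  ∃ P : Matrix (Fin m) (Fin m) R, P * P = P ∧ N = LinearMap.range P.mulVecLin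

theorem split_of_projective (N : Submodule R (Fin m → R)) [Module.Projective R ((Fin m → R) ⧸ N)] :
    Split N := by
  obtain ⟨s, hs⟩ := Module.projective_lifting_property N.mkQ LinearMap.id N.mkQ_surjective
  have hs' : ∀ x, N.mkQ (s x) = x := LinearMap.congr_fun hs
  let π : (Fin m → R) →ₗ[R] (Fin m → R) := LinearMap.id - s.comp N.mkQ
  have hmem : ∀ x, π x ∈ N := fun x => by
    refine (Submodule.Quotient.mk_eq_zero N).mp ?_
    change N.mkQ (x - s (N.mkQ x)) = 0
    rw [map_sub, hs', sub_self]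
  have hfix : ∀ x ∈ N, π x = x := fun x hx => by
    show x - s (N.mkQ x) = x
    rw [show N.mkQ x = 0 from (Submodule.Quotient.mk_eq_zero N).mpr hx, map_zero, sub_zero]
  have hP : (LinearMap.toMatrix' π).mulVecLin = π := Matrix.toLin'_toMatrix' π
  refine ⟨LinearMap.toMatrix' π, ?_, ?_⟩
  · rw [← LinearMap.toMatrix'_comp]
    congr 1
    exact LinearMap.ext fun x => hfix _ (hmem x)
  · rw [hP]
    exact le_antisymm (fun x hx => ⟨x, hfix x hx⟩) (by rintro _ ⟨x, rfl⟩; exact hmem x)

theorem perp_range {P : Matrix (Fin m) (Fin m) R} (hP : P * P = P) :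
    perp (LinearMap.range P.mulVecLin) = LinearMap.range (1 - Pᵀ).mulVecLin := by
  ext c
  rw [mem_perp]
  constructor
  · intro h
    have hc : Pᵀ *ᵥ c = 0 := by
      rw [Matrix.mulVec_transpose]
      funext i
      have := h (P *ᵥ Pi.single i 1) ⟨Pi.single i 1, rfl⟩
      rw [Matrix.dotProduct_mulVec, dotProduct_single_one] at this
      exact this
    exact ⟨c, by rw [Matrix.mulVecLin_apply, Matrix.sub_mulVec, Matrix.one_mulVec, hc, sub_zero]⟩
  · rintro ⟨d, rfl⟩ _ ⟨w, rfl⟩
    have hT : Pᵀ *ᵥ ((1 - Pᵀ) *ᵥ d) = 0 := by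
      rw [Matrix.mulVec_mulVec, mul_sub, mul_one, ← Matrix.transpose_mul, hP, sub_self, Matrix.zero_mulVec]
    rw [Matrix.mulVecLin_apply, Matrix.mulVecLin_apply, Matrix.dotProduct_mulVec, ← Matrix.mulVec_transpose,
      hT, zero_dotProduct]

theorem idem_compl {P : Matrix (Fin m) (Fin m) R} (hP : P * P = P) : (1 - Pᵀ) * (1 - Pᵀ) = 1 - Pᵀ := by
  rw [sub_mul, one_mul, mul_sub, mul_one, ← Matrix.transpose_mul, hP, sub_self, sub_zero]

theorem perp_perp {N : Submodule R (Fin m → R)} (h : Split N) : perp (perp N) = N := by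
  obtain ⟨P, hP, rfl⟩ := h
  rw [perp_range hP, perp_range (idem_compl hP)]
  simp

theorem split_perp {N : Submodule R (Fin m → R)} (h : Split N) : Split (perp N) := by
  obtain ⟨P, hP, rfl⟩ := h
  exact ⟨_, idem_compl hP, perp_range hP⟩

theorem Split.eq_span {N : Submodule R (Fin m → R)} (h : Split N) :
    ∃ s : Fin m → Fin m → R, N = Submodule.span R (Set.range s) := by
  obtain ⟨P, -, rfl⟩ := h
  exact ⟨P.col, Matrix.range_mulVecLin P⟩

theorem bc_span (φ : R →+* S) {ι : Type*} (s : ι → Fin m → R) :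
    bc φ (Submodule.span R (Set.range s)) = Submodule.span S (Set.range fun i => φ ∘ s i) := by
  apply le_antisymm
  · refine Submodule.span_le.mpr ?_
    rintro _ ⟨w, hw, rfl⟩
    refine Submodule.span_induction ?_ ?_ ?_ ?_ hw (p := fun w _ => φ ∘ w ∈ Submodule.span S (Set.range fun i => φ ∘ s i))
    · rintro _ ⟨i, rfl⟩; exact Submodule.subset_span ⟨i, rfl⟩
    · rw [show φ ∘ (0 : Fin m → R) = 0 from funext fun _ => map_zero φ]; exact Submodule.zero_mem _
    · intro a b _ _ ha hb
      rw [show φ ∘ (a + b) = φ ∘ a + φ ∘ b from funext fun _ => map_add φ _ _]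
      exact Submodule.add_mem _ ha hb
    · intro r a _ ha
      rw [SBAut.comp_smul_eq]
      exact Submodule.smul_mem _ _ ha
  · refine Submodule.span_le.mpr ?_
    rintro _ ⟨i, rfl⟩
    exact SBAut.comp_mem_bc φ (Submodule.subset_span ⟨i, rfl⟩)

theorem bc_range (φ : R →+* S) (P : Matrix (Fin m) (Fin m) R) :
    bc φ (LinearMap.range P.mulVecLin) = LinearMap.range (P.map φ).mulVecLin := by
  rw [Matrix.range_mulVecLin, Matrix.range_mulVecLin, bc_span]
  rfl

theorem perp_bc (φ : R →+* S) {N : Submodule R (Fin m → R)} (h : Split N) :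
    perp (bc φ N) = bc φ (perp N) := by
  obtain ⟨P, hP, rfl⟩ := h
  have hP' : P.map φ * P.map φ = P.map φ := by rw [← Matrix.map_mul, hP]
  rw [bc_range, perp_range hP', perp_range hP, bc_range]
  congr 2
  ext i j
  simp [Matrix.one_apply]

theorem Split.projective_quotient {N : Submodule R (Fin m → R)} (h : Split N) :
    Module.Projective R ((Fin m → R) ⧸ N) := by
  obtain ⟨P, hP, rfl⟩ := h
  refine Module.Projective.of_split (Submodule.liftQ _ (LinearMap.id - P.mulVecLin) ?_)
    (Submodule.mkQ _) ?_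
  · rintro _ ⟨w, rfl⟩
    simp [Matrix.mulVec_mulVec, hP]
  · refine Submodule.linearMap_qext _ (LinearMap.ext fun x => ?_)
    simp

/-- A matrix preserving `N` transposes to one preserving the annihilator. -/
theorem perp_stable {N : Submodule R (Fin m → R)} (L : Matrix (Fin m) (Fin m) R)
    (hL : ∀ v ∈ N, L *ᵥ v ∈ N) {c : Fin m → R} (hc : c ∈ perp N) : Lᵀ *ᵥ c ∈ perp N := fun v hv => by
  rw [Matrix.mulVec_transpose, ← Matrix.dotProduct_mulVec]
  exact hc _ (hL v hv)

end Groth.Agent.Lib.SBTaut
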