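import Groth.Agent.Lib.SBTaut.Bundle
import Groth.Agent.Lib.SBTaut.Act
import Groth.Agent.Lib.SBTaut.Iso
import Groth.Agent.Lib.ProjMor.Frame
import Groth.Agent.Lib.GrassGen.Span
import Groth.Agent.Lib.CohDelta.BC.CoverIso
import Groth.Agent.Lib.SBTwist.Main

/-!
# The bundle has type `O(1)`
-/

set_option autoImplicit false
set_option linter.style.haveILetI false
universe u

open CategoryTheory CategoryTheory.Limits AlgebraicGeometry Matrix Opposite TopologicalSpace
open ZarCoh.FlatBC.PullbackSections (pbRes pbRes_smul)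
open scoped TensorProduct

noncomputable section

namespace Groth.Agent.Lib.SBTaut

open Groth.Agent.Lib TensorMod.Dual ProjSpace.Charts ProjSpace.Basic
open Groth.Agent.Lib.SBAut (bc IsLine)

theorem comb_rs {Y : Scheme.{u}} {m : ℕ} {M : Y.Modules} (q : Fin m → Γ(M, ⊤)) {U V : Y.Opens} (h : V ≤ U)
    (v : Fin m → Γ(Y, U)) :
    rs M h (comb q U v) = comb q V (Y.presheaf.map (homOfLE h).op ∘ v) := by
  rw [comb, comb]
  show (M.presheaf.map (homOfLE h).op) _ = _
  rw [map_sum]
  refine Finset.sum_congr rfl fun i _ => ?_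
  refine (rs_smul M h (v i) _).trans ?_
  rw [rs_rs]
  rfl

variable {N : ℕ} {K : Type u} [Field K]

/-- `P^N_K`. -/
local notation "P" => CohB1.ProjSpace N K

/-- `O(1)^(N+1)`. -/
def twSum (N : ℕ) (K : Type u) [Field K] : (CohB1.ProjSpace N K).Modules :=
  BrSev.pow (Twist.twistProjSpace N K 1) (N + 1)

/-- The linear form `X l`. -/
def linX (N : ℕ) (K : Type u) [Field K] (l : Fin (N + 1)) : CohB1.polyGrading N K 1 :=
  ⟨MvPolynomial.X l, MvPolynomial.isHomogeneous_X K l⟩

/-- The standard open `D₊(X i)`. -/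
abbrev dop (N : ℕ) (K : Type u) [Field K] (i : Fin (N + 1)) : (CohB1.ProjSpace N K).Opens :=
  Proj.basicOpen (CohB1.polyGrading N K) (MvPolynomial.X i : MvPolynomial (Fin (N + 1)) K)

/-- The coordinate section. -/
def xg (l : Fin (N + 1)) : Γ(Twist.twistProjSpace N K 1, ⊤) :=
  ProjMor.Frame.g (CohB1.polyGrading N K) (linX N K l)

/-- The coordinate sections restricted to an open. -/
def xs (l : Fin (N + 1)) (W : (CohB1.ProjSpace N K).Opens) : Γ(Twist.twistProjSpace N K 1, W) :=
  rs (Twist.twistProjSpace N K 1) (le_top : W ≤ ⊤) (xg l)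

theorem bijective_smul_xs (i : Fin (N + 1)) {W : (CohB1.ProjSpace N K).Opens} (hW : W ≤ dop N K i) :
    Function.Bijective fun r : Γ(CohB1.ProjSpace N K, W) => r • xs i W := by
  have h := (ProjMor.Frame.isGen_g (linX N K i)) W hW
  rw [ProjMor.Sec.rs_gl] at h
  exact h

/-- A summand inclusion. -/
def slot (a : Fin (N + 1)) : Twist.twistProjSpace N K 1 ⟶ twSum N K :=
  Sigma.ι (fun _ : Fin (N + 1) => Twist.twistProjSpace N K 1) a

/-- The section of the chart ring. -/
def toD (i : Fin (N + 1)) {W : (CohB1.ProjSpace N K).Opens}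
    (hW : W ≤ dop N K i) :
    CommRingCat.of (AwayX K i) ⟶ Γ(CohB1.ProjSpace N K, W) :=
  Proj.awayToSection (CohB1.polyGrading N K) (MvPolynomial.X i) ≫ (CohB1.ProjSpace N K).presheaf.map (homOfLE hW).op

theorem fromSpec_eq (i : Fin (N + 1)) {W : (CohB1.ProjSpace N K).Opens} (hWa : IsAffineOpen W)
    (hW : W ≤ dop N K i) :
    Spec.map (toD i hW) ≫ awayχ K i = hWa.fromSpec := by
  have hD : IsAffineOpen (Proj.basicOpen (CohB1.polyGrading N K)
      (MvPolynomial.X i : MvPolynomial (Fin (N + 1)) K)) := by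
    show IsAffineOpen (Proj.basicOpen _ _)
    exact (opensRange_awayχ K i) ▸ isAffineOpen_opensRange (awayχ K i)
  rw [toD, Spec.map_comp, Category.assoc]
  refine Eq.trans (congrArg (fun q => Spec.map ((CohB1.ProjSpace N K).presheaf.map (homOfLE hW).op) ≫ q) ?_)
    (hD.map_fromSpec hWa (homOfLE hW).op)
  refine Eq.trans ?_ (rfl : hD.isoSpec.inv ≫ Scheme.Opens.ι _ = hD.fromSpec)
  refine (Iso.eq_inv_comp hD.isoSpec).mpr ?_
  show hD.isoSpec.hom ≫ Spec.map _ ≫ (Proj.basicOpenIsoSpec _ _ (X_mem_one i) one_pos).inv ≫ _ = _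
  refine ((Category.assoc _ _ _).symm.trans (Category.assoc _ _ _).symm).trans ?_
  have e : hD.isoSpec.hom ≫ Spec.map (Proj.awayToSection (CohB1.polyGrading N K) (MvPolynomial.X i)) =
      (Proj.basicOpenIsoSpec (CohB1.polyGrading N K) (MvPolynomial.X i) (X_mem_one i) one_pos).hom := by
    rw [Proj.basicOpenIsoSpec_hom, Proj.basicOpenToSpec, hD.isoSpec_hom]
  refine Eq.trans (congrArg (fun q => (q ≫ (Proj.basicOpenIsoSpec (CohB1.polyGrading N K) (MvPolynomial.X i) (X_mem_one i) one_pos).inv) ≫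
    (dop N K i).ι) e) ?_
  exact (congrArg (fun q => q ≫ (dop N K i).ι) (Iso.hom_inv_id _)).trans (Category.id_comp _)

theorem xs_eq (i l : Fin (N + 1)) {W : (CohB1.ProjSpace N K).Opens}
    (hW : W ≤ dop N K i) :
    xs l W = (toD i hW).hom (coord K i l) • xs i W := by
  have h := congrArg (rs _ (hW : W ≤ Proj.basicOpen (CohB1.polyGrading N K) ((linX N K i : CohB1.polyGrading N K 1) : MvPolynomial (Fin (N + 1)) K)))
    (ProjMor.Frame.g_eq_fr_smul (linX N K i) (linX N K l))
  refine ((ProjMor.Sec.rs_gl hW _).symm.trans (h.trans ((rs_smul _ hW _ _).trans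
    (congrArg₂ (fun (z : Γ(CohB1.ProjSpace N K, W)) w => z • w) ?_ (ProjMor.Sec.rs_gl hW _)))))
  show _ = (CohB1.ProjSpace N K).presheaf.map (homOfLE hW).op _
  refine congrArg _ (congrArg _ (HomogeneousLocalization.val_injective _ ?_))
  simp [linX, coord, HomogeneousLocalization.Away.mk]

variable {k : Type u} [Field k] {A : Type u} [Ring A] [Algebra k A]
  {X : Scheme.{u}} {f : X ⟶ Spec (CommRingCat.of k)} [Algebra k K]
  (ψ : K ⊗[k] A ≃ₐ[K] Matrix (Fin (N + 1)) (Fin (N + 1)) K)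
  (σ : BrSev.SBStr k A ((N + 1) * (N + 1) - (N + 1)) f) {m : ℕ} (b : Module.Basis (Fin m) k A)

/-- The images of the generators in `O(1)^(N+1)`. -/
def qSec (j : Fin m) : Γ(twSum N K, ⊤) :=
  ∑ a, (slot a).app ⊤ (∑ l, glc (CohB1.ProjSpace.toSpec N K) (unitCoords ψ b a l j) •
    xg l)

/-- The coefficient in the slot `a`. -/
def coef (i : Fin (N + 1)) {W : (CohB1.ProjSpace N K).Opens}
    (hW : W ≤ dop N K i)
    (C : Fin m → Γ(CohB1.ProjSpace N K, W)) (a : Fin (N + 1)) : Γ(CohB1.ProjSpace N K, W) :=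
  ∑ l, (toD i hW).hom (coord K i l) * (C ⬝ᵥ (con (CohB1.ProjSpace.toSpec N K) W ∘ unitCoords ψ b a l))

theorem comb_qSec (i : Fin (N + 1)) {W : (CohB1.ProjSpace N K).Opens}
    (hW : W ≤ dop N K i)
    (C : Fin m → Γ(CohB1.ProjSpace N K, W)) :
    comb (qSec ψ b) W C = ∑ a, (slot a).app W (coef ψ b i hW C a • xs i W) := by
  have h : ∀ j, rs (twSum N K) (le_top : W ≤ ⊤) (qSec ψ b j) = ∑ a, (slot a).app W
      ((∑ l, con (CohB1.ProjSpace.toSpec N K) W (unitCoords ψ b a l j) * (toD i hW).hom (coord K i l)) • xs i W) := by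
    intro j
    show ((twSum N K).presheaf.map _) _ = _
    rw [qSec, map_sum]
    refine Finset.sum_congr rfl fun a _ => ?_
    refine (Modules.TensorSec.app_rs (slot a) (le_top : W ≤ ⊤) _).symm.trans (congrArg _ ?_)
    show ((Twist.twistProjSpace N K 1).presheaf.map _) _ = _
    rw [map_sum, Finset.sum_smul]
    refine Finset.sum_congr rfl fun l _ => ?_
    refine (rs_smul _ (le_top : W ≤ ⊤) _ _).trans ?_
    rw [mul_smul, ← xs_eq i l hW]
    rfl
  rw [comb]
  simp only [h, Finset.smul_sum]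
  rw [Finset.sum_comm]
  refine Finset.sum_congr rfl fun a _ => ?_
  simp only [← Scheme.Modules.Hom.app_smul, smul_smul, ← map_sum, ← Finset.sum_smul]
  congr 2
  simp only [coef, dotProduct, Finset.mul_sum, Function.comp_apply]
  rw [Finset.sum_comm]
  exact Finset.sum_congr rfl fun l _ => Finset.sum_congr rfl fun j _ => by ring

theorem slot_injective (i : Fin (N + 1)) {W : (CohB1.ProjSpace N K).Opens}
    (hW : W ≤ dop N K i)
    (c : Fin (N + 1) → Γ(CohB1.ProjSpace N K, W)) (h : ∑ a, (slot a).app W (c a • xs i W) = 0) :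
    c = 0 := by
  classical
  funext a
  let p : twSum N K ⟶ Twist.twistProjSpace N K 1 := Sigma.desc fun a' => if a' = a then 𝟙 _ else 0
  have h1 := congrArg (p.app W) h
  rw [map_sum, map_zero, Finset.sum_eq_single a] at h1
  · have h2 : ∀ z, p.app W ((slot a).app W z) = z := fun z => by
      refine (congrArg (fun χ : Twist.twistProjSpace N K 1 ⟶ _ => χ.app W z)
        (Sigma.ι_desc (fun a' => if a' = a then 𝟙 (Twist.twistProjSpace N K 1) else 0) a)).trans ?_
      simp
    rw [h2] at h1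
    exact (bijective_smul_xs i hW).1 (h1.trans (zero_smul _ _).symm)
  · intro a' _ ha'
    refine (congrArg (fun χ : Twist.twistProjSpace N K 1 ⟶ _ => χ.app W (c a' • xs i W))
      (Sigma.ι_desc (fun a'' => if a'' = a then 𝟙 (Twist.twistProjSpace N K 1) else 0) a')).trans ?_
    simp [ha']
  · simp

variable (θ : CohB1.ProjSpace N K ⟶ BrSev.bc f K)
  (hθ : θ ≫ BrSev.bcTo f K = CohB1.ProjSpace.toSpec N K)
  (hθc : ∀ i, awayχ K i ≫ θ = chartHom ψ σ i)

include hθ hθc in
theorem mem_T_chart (i : Fin (N + 1)) {W : (CohB1.ProjSpace N K).Opens} (hWa : IsAffineOpen W)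
    (hW : W ≤ dop N K i)
    (C : Fin m → Γ(CohB1.ProjSpace N K, W)) :
    C ∈ T f b σ (hWa.fromSpec ≫ θ ≫ BrSev.proj f K) ↔ coef ψ b i hW C = 0 := by
  rw [← Category.assoc, mem_T_iff ψ N.succ_pos σ b (hWa.fromSpec ≫ θ)]
  have hline : line ψ N.succ_pos σ (hWa.fromSpec ≫ θ) =
      Submodule.span _ {(toD i hW).hom ∘ chartVec (K := K) i} := by
    rw [← fromSpec_eq i hWa hW, Category.assoc, hθc]
    exact line_comp_chartHom ψ σ i (toD i hW)
  have halg : alg (BrSev.bcTo f K) (hWa.fromSpec ≫ θ) = con (CohB1.ProjSpace.toSpec N K) W := by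
    rw [← alg_fromSpec (CohB1.ProjSpace.toSpec N K) hWa]
    show (Spec.preimage _).hom = (Spec.preimage _).hom
    rw [Category.assoc, hθ]
  rw [halg, hline]
  constructor
  · intro h
    funext a
    exact h _ (Submodule.mem_span_singleton_self _) a
  · intro h v hv a
    obtain ⟨r, rfl⟩ := Submodule.mem_span_singleton.mp hv
    simp only [Pi.smul_apply, smul_eq_mul, mul_assoc, ← Finset.mul_sum]
    show r * coef ψ b i hW C a = 0
    rw [h, Pi.zero_apply, mul_zero]

include hθ hθc in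
theorem exists_desc_twist : ∃ φ : E f b σ ⟶
      (Scheme.Modules.pushforward (θ ≫ BrSev.proj f K)).obj (twSum N K),
    ∀ j, φ.app ⊤ (t f b σ j) = qSec ψ b j := by
  set h := θ ≫ BrSev.proj f K
  refine exists_desc f b σ (M := (Scheme.Modules.pushforward h).obj (twSum N K)) (qSec ψ b) fun U hU v hv => ?_
  have e : comb (M := (Scheme.Modules.pushforward h).obj (twSum N K)) (qSec ψ b) U v =
      comb (qSec ψ b) (h ⁻¹ᵁ U) (h.app U ∘ v) := rfl
  refine e.trans ?_
  refine Modules.TensorSec.section_ext (twSum N K) _ _ fun y hy => ?_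
  obtain ⟨i, hi⟩ := exists_mem_opensRange_chartι N K y
  rw [opensRange_chartι] at hi
  obtain ⟨W, hWa, hyW, hWle⟩ := exists_isAffineOpen_mem_and_subset (U := (h ⁻¹ᵁ U) ⊓
    dop N K i) (x := y) ⟨hy, hi⟩
  have hWU : W ≤ h ⁻¹ᵁ U := fun z hz => (hWle hz).1
  have hWi : W ≤ dop N K i :=
    fun z hz => (hWle hz).2
  refine ⟨W, hWU, hyW, ?_⟩
  show rs (twSum N K) hWU _ = rs (twSum N K) hWU 0
  rw [comb_rs (qSec ψ b) hWU, comb_qSec ψ b i hWi]
  have hC : ((CohB1.ProjSpace N K).presheaf.map (homOfLE hWU).op ∘ h.app U ∘ v) ∈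
      T f b σ (hWa.fromSpec ≫ h) := by
    rw [← IsAffineOpen.SpecMap_appLE_fromSpec h hU hWa hWU, T_comp]
    exact SBAut.comp_mem_bc _ hv
  rw [(mem_T_chart ψ σ b θ hθ hθc i hWa hWi _).mp hC]
  refine Eq.trans (Finset.sum_eq_zero fun a _ => ?_) (map_zero _).symm
  simp

include hθ hθc in
theorem nonempty_pullback_iso : Nonempty ((Scheme.Modules.pullback (θ ≫ BrSev.proj f K)).obj (E f b σ) ≅ twSum N K) := by
  obtain ⟨φ', hφ'⟩ := exists_desc_twist ψ σ b θ hθ hθc
  let h := θ ≫ BrSev.proj f K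
  let φ := ((Scheme.Modules.pullbackPushforwardAdjunction h).homEquiv _ _).symm φ'
  have hkey : ∀ {U : X.Opens} {W : (CohB1.ProjSpace N K).Opens} (e : W ≤ h ⁻¹ᵁ U) (m : Γ(E f b σ, U)),
      φ.app W (pbRes h (E f b σ) e m) = rs (twSum N K) e (φ'.app U m) := by
    intro U W e m
    refine (Modules.TensorSec.app_rs φ e _).trans (congrArg (rs (twSum N K) e) ?_)
    have hu : (Scheme.Modules.pullbackPushforwardAdjunction h).unit.app (E f b σ) ≫
        (Scheme.Modules.pushforward h).map φ = φ' := by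
      exact (Adjunction.homEquiv_unit _ _ _ φ).symm.trans (Equiv.apply_symm_apply _ _)
    exact congrArg (fun χ : E f b σ ⟶ _ => χ.app U m) hu
  haveI : ((Scheme.Modules.pullback h).obj (E f b σ)).IsQuasicoherent :=
    QCoh.Pullback.isQCoh_pullback h (E f b σ)
  haveI : IsLocallyNoetherian (CohB1.ProjSpace N K) :=
    LocallyOfFiniteType.isLocallyNoetherian (CohB1.ProjSpace.toSpec N K)
  haveI : (twSum N K).IsQuasicoherent := (CohDelta.KBC.isCoh_pow
    (Ample.GG.isCoh_of_isInvertible (PicProjOver.isInvertible_twistProjSpace N K 1)) (N + 1)).1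
  suffices IsIso φ from ⟨asIso φ⟩
  refine CohDelta.BC.CoverIso.isIso_of_bijective_cover _ fun y => ?_
  obtain ⟨U, hU, hyU, -⟩ := exists_isAffineOpen_mem_and_subset (x := h y) (U := (⊤ : X.Opens)) trivial
  obtain ⟨i, hi⟩ := exists_mem_opensRange_chartι N K y
  rw [opensRange_chartι] at hi
  obtain ⟨W, hWa, hyW, hWle⟩ := exists_isAffineOpen_mem_and_subset (U := (h ⁻¹ᵁ U) ⊓
    dop N K i) (x := y) ⟨hyU, hi⟩
  have hWU : W ≤ h ⁻¹ᵁ U := fun z hz => (hWle hz).1
  have hWi : W ≤ dop N K i :=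
    fun z hz => (hWle hz).2
  refine ⟨W, hWa, hyW, ?_⟩
  let gen : Fin m → Γ((Scheme.Modules.pullback h).obj (E f b σ), W) := fun j =>
    pbRes h (E f b σ) hWU (rs (E f b σ) le_top (t f b σ j))
  have hgen : ∀ v : Fin m → Γ(X, U), pbRes h (E f b σ) hWU (comb (t f b σ) U v) =
      ∑ j, ((h.appLE U W hWU).hom ∘ v) j • gen j := fun v => by
    rw [comb, map_sum]
    exact Finset.sum_congr rfl fun j _ => pbRes_smul h (E f b σ) hWU (v j) _
  have hspan : ∀ z, ∃ C : Fin m → Γ(CohB1.ProjSpace N K, W), z = ∑ j, C j • gen j := fun z => by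
    have hz : z ∈ Submodule.span Γ(CohB1.ProjSpace N K, W) (Set.range fun v => pbRes h (E f b σ) hWU (comb (t f b σ) U v)) := by
      rw [CohBasics.Affine.span_eq_top_of_germ hWa _ fun p hp => ?_]
      · trivial
      rw [← Set.range_comp]
      refine eq_top_iff.mpr ((GrassGen.Span.span_germ_pbRes hU h hWU hp).ge.trans (Submodule.span_mono ?_))
      rintro _ ⟨e, rfl⟩
      obtain ⟨v, rfl⟩ := comb_t_surjective f b σ hU e
      exact ⟨v, rfl⟩
    have hle : Submodule.span Γ(CohB1.ProjSpace N K, W)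
        (Set.range fun v => pbRes h (E f b σ) hWU (comb (t f b σ) U v)) ≤
        LinearMap.range (Fintype.linearCombination Γ(CohB1.ProjSpace N K, W) gen) := by
      rw [Submodule.span_le]
      rintro _ ⟨v, rfl⟩
      exact ⟨_, (hgen v).symm⟩
    obtain ⟨C, hC⟩ := hle hz
    exact ⟨C, hC.symm⟩
  have himg : ∀ C : Fin m → Γ(CohB1.ProjSpace N K, W),
      φ.app W (∑ j, C j • gen j) = comb (qSec ψ b) W C := fun C => by
    rw [map_sum, comb]
    refine Finset.sum_congr rfl fun j _ => ?_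
    rw [Scheme.Modules.Hom.app_smul]
    refine congrArg (C j • ·) ((hkey hWU _).trans ?_)
    rw [Modules.TensorSec.app_rs φ' (le_top : U ≤ ⊤)]
    refine Eq.trans ?_ (congrArg (rs (twSum N K) (le_top : W ≤ ⊤)) (hφ' j))
    exact rs_rs (twSum N K) (show h ⁻¹ᵁ U ≤ h ⁻¹ᵁ (⊤ : X.Opens) from h.preimage_mono le_top) hWU (φ'.app ⊤ (t f b σ j))
  constructor
  · rw [injective_iff_map_eq_zero]
    intro z hz
    obtain ⟨C, rfl⟩ := hspan z
    rw [himg, comb_qSec ψ b i hWi] at hz
    have hC := (mem_T_chart ψ σ b θ hθ hθc i hWa hWi C).mpr (slot_injective i hWi _ hz)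
    rw [show hWa.fromSpec ≫ θ ≫ BrSev.proj f K = hWa.fromSpec ≫ h from rfl,
      ← IsAffineOpen.SpecMap_appLE_fromSpec h hU hWa hWU, T_comp] at hC
    refine Submodule.span_induction ?_ ?_ ?_ ?_ hC (p := fun C _ => ∑ j, C j • gen j = 0)
    · rintro _ ⟨v, hv, rfl⟩
      rw [← hgen, (comb_t_eq_zero_iff f b σ hU v).mpr hv, map_zero]
    · simp
    · intro C C' _ _ hC hC'
      simp only [Pi.add_apply, add_smul, Finset.sum_add_distrib, hC, hC', add_zero]
    · intro r C _ hC
      simp only [Pi.smul_apply, smul_eq_mul, mul_smul, ← Finset.smul_sum, hC, smul_zero]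
  · intro z
    classical
    let p : Fin (N + 1) → (twSum N K ⟶ Twist.twistProjSpace N K 1) := fun a =>
      Sigma.desc fun a' => if a' = a then 𝟙 _ else 0
    have hsum : ∑ a, p a ≫ slot a = 𝟙 (twSum N K) := Sigma.hom_ext _ _ fun a => by
      refine (Preadditive.comp_sum _ _ _).trans ?_
      refine (Finset.sum_eq_single a (fun a' _ ha' => ?_) fun hh => absurd (Finset.mem_univ a) hh).trans ?_
      · refine ((Category.assoc _ _ _).symm.trans (congrArg (fun q : Twist.twistProjSpace N K 1 ⟶ _ => q ≫ slot a')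
          (Sigma.ι_desc (fun a'' => if a'' = a' then 𝟙 (Twist.twistProjSpace N K 1) else 0) a))).trans ?_
        simp [Ne.symm ha']
      · refine ((Category.assoc _ _ _).symm.trans (congrArg (fun q : Twist.twistProjSpace N K 1 ⟶ _ => q ≫ slot a)
          (Sigma.ι_desc (fun a'' => if a'' = a then 𝟙 (Twist.twistProjSpace N K 1) else 0) a))).trans ?_
        rw [if_pos rfl, Category.id_comp]
        exact (Category.comp_id _).symm
    have hz : z = ∑ a, (slot a).app W ((p a).app W z) := by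
      let ev : (twSum N K ⟶ twSum N K) →+ Γ(twSum N K, W) :=
        AddMonoidHom.mk' (fun χ => χ.app W z) fun _ _ => rfl
      exact (congrArg ev hsum).symm.trans (map_sum ev (fun a => p a ≫ slot a) Finset.univ)
    choose d hd' using fun a => (bijective_smul_xs i hWi).2 ((p a).app W z)
    let M : Fin (N + 1) → Fin m → K := fun a j => ψ ((1 : K) ⊗ₜ[k] b j) a i
    let C : Fin m → Γ(CohB1.ProjSpace N K, W) := fun j =>
      ∑ a, d a * con (CohB1.ProjSpace.toSpec N K) W (M a j)
    refine ⟨∑ j, C j • gen j, ?_⟩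
    rw [himg, comb_qSec ψ b i hWi, hz]
    refine Finset.sum_congr rfl fun a _ => congrArg _ (Eq.trans ?_ (hd' a))
    refine congrArg (fun w : Γ(CohB1.ProjSpace N K, W) => w • xs i W) ?_
    have horth : ∀ a' l, ∑ j, unitCoords ψ b a l j * M a' j = if a = a' ∧ l = i then 1 else 0 := fun a' l => by
      have h1 : ψ.symm (Matrix.single a l 1) = ∑ j, unitCoords ψ b a l j • ((1 : K) ⊗ₜ[k] b j) := by
        conv_lhs => rw [← (Algebra.TensorProduct.basis K b).sum_equivFun (ψ.symm (Matrix.single a l 1))]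
        exact Finset.sum_congr rfl fun j _ => by rw [Algebra.TensorProduct.basis_apply]; rfl
      have h2 := congrArg (fun x => ψ x a' i) h1
      simp only [AlgEquiv.apply_symm_apply, map_sum, map_smul, Matrix.sum_apply, Matrix.smul_apply,
        smul_eq_mul, Matrix.single_apply] at h2
      exact h2.symm
    show ∑ l, (toD i hWi).hom (coord K i l) * ∑ j, C j * con (CohB1.ProjSpace.toSpec N K) W (unitCoords ψ b a l j) = d a
    have hCl : ∀ l, ∑ j, C j * con (CohB1.ProjSpace.toSpec N K) W (unitCoords ψ b a l j) =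
        if l = i then d a else 0 := fun l => by
      simp only [C, Finset.sum_mul, mul_assoc, ← map_mul, mul_comm (M _ _)]
      rw [Finset.sum_comm]
      simp only [← Finset.mul_sum, ← map_sum, horth]
      rw [Finset.sum_eq_single a]
      · by_cases hl : l = i <;> simp [hl]
      · intro a' _ ha'
        simp [Ne.symm ha']
      · simp
    simp only [hCl, mul_ite, mul_zero, Finset.sum_ite_eq', Finset.mem_univ, if_true, coord_self, map_one, one_mul]

include ψ in
/-- The bundle has type `O_e(1)` with multiplicity the degree. -/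
theorem isTwPow_E (e : BrSev.Splitting f K N) : BrSev.IsTwPow e 1 (N + 1) (E f b σ) := by
  obtain ⟨θ, hθi, hθ, hθc⟩ := exists_iso ψ σ
  haveI := hθi
  obtain ⟨φ⟩ := nonempty_pullback_iso ψ σ b θ hθ hθc
  obtain ⟨ω⟩ := SBTwist.nonempty_pullback_auto (n := N) (K := K) (θ ≫ e.iso.hom) 1
  let back : ∀ M : (BrSev.bc f K).Modules,
      (Scheme.Modules.pullback (inv θ)).obj ((Scheme.Modules.pullback θ).obj M) ≅ M := fun M =>
    (Scheme.Modules.pullbackComp (inv θ) θ).app M ≪≫
      (Scheme.Modules.pullbackCongr (IsIso.inv_hom_id θ)).app M ≪≫ (Scheme.Modules.pullbackId _).app M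
  let tw1 : (Scheme.Modules.pullback (inv θ)).obj (Twist.twistProjSpace N K 1) ≅ e.twist 1 :=
    (Scheme.Modules.pullback (inv θ)).mapIso (ω.symm ≪≫ ((Scheme.Modules.pullbackComp θ e.iso.hom).app _).symm) ≪≫
      back _
  haveI := (Scheme.Modules.pullbackPushforwardAdjunction (inv θ)).leftAdjoint_preservesColimits
  exact ⟨(back _).symm ≪≫ (Scheme.Modules.pullback (inv θ)).mapIso
      ((Scheme.Modules.pullbackComp θ (BrSev.proj f K)).app _ ≪≫ φ) ≪≫
    PreservesCoproduct.iso (Scheme.Modules.pullback (inv θ)) _ ≪≫ Sigma.mapIso fun _ => tw1⟩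

end Groth.Agent.Lib.SBTaut
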